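import Cfsg.Agent.H160.NC.Main
import Cfsg.Agent.H564.PSL
import Cfsg.Agent.H371.PslComp

/-!
# Adjacency in `PSL_n(q)` by blocks; cyclic Sylow subgroups of `GL_n(q)` (helper160, for S4185)
-/

set_option autoImplicit false
set_option linter.unusedSectionVars false

namespace Cfsg.Agent.H160.NC.LAdj

open Matrix Cfsg
open Cfsg.Agent.H94.PG (Adj adj_of_dvd)
open Cfsg.Agent.H371 Cfsg.Agent.H371.Psl
open Cfsg.Agent.H160.NC

theorem adj_of_padj {G : Type*} [Group G] [Finite G] {a b : ℕ} (h : PAdj G a b) : Adj G a b := by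
  obtain ⟨ha, hb, hab, g, hg⟩ := h
  exact adj_of_orderOf ha hb hab (by rw [hg])

variable {F : Type*} [Field F]

/-- a nontrivial element of prime order `u` and determinant one -/
def Elt (F : Type*) [Field F] (k u : ℕ) : Prop := ∃ A : Matrix (Fin k) (Fin k) F, A.det = 1 ∧ A ^ u = 1 ∧ A ≠ 1

theorem Elt.pos {k u : ℕ} (h : Elt F k u) : 1 ≤ k := by
  obtain ⟨A, -, -, h⟩ := h
  by_contra hk
  obtain rfl : k = 0 := by omega
  exact h (Subsingleton.elim _ _)

theorem elt_of_dvd [Finite F] {k u : ℕ} (hk : 1 ≤ k) (hu : u.Prime) (h1 : u ∣ Nat.card F ^ k - 1)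
    (h2 : ¬ u ∣ Nat.card F - 1) : Elt F k u := by
  obtain ⟨A, -, -, hA, -, hA1, -, hAd, -⟩ := exists_sl_pair (F := F) hk hu hu h1 h1 h2 h2
  exact ⟨A, hAd, hA, hA1⟩

theorem elt_root [Finite F] {k u : ℕ} (hk : 2 ≤ k) (hu : u.Prime) (h1 : u ∣ Nat.card F - 1) : Elt F k u := by
  obtain ⟨a, ha, ha1⟩ := H564.PSLn.exists_order hu h1
  have ha0 : a ≠ 0 := by
    rintro rfl
    rw [zero_pow hu.ne_zero] at ha
    exact zero_ne_one ha
  let i : Fin k := ⟨0, by omega⟩
  let j : Fin k := ⟨1, by omega⟩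
  have hij : i ≠ j := by
    intro h
    exact absurd (congrArg Fin.val h) (by simp [i, j])
  refine ⟨diagonal (fun l => if l = i then a else if l = j then a⁻¹ else 1), ?_, ?_, ?_⟩
  · rw [det_diagonal]
    exact H564.PSLn.prod_inv ha0 hij
  · rw [diagonal_pow, ← diagonal_one]
    congr 1
    funext l
    rw [Pi.pow_apply]
    split_ifs
    · exact ha
    · rw [inv_pow, ha, inv_one]
    · exact one_pow _
  · intro h
    have := congrFun (congrFun h i) i
    rw [diagonal_apply_eq, if_pos rfl, one_apply_eq] at this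
    exact ha1 this

theorem elt_char {k u : ℕ} (hk : 2 ≤ k) (h1 : (u : F) = 0) : Elt F k u := by
  let i : Fin k := ⟨0, by omega⟩
  let j : Fin k := ⟨1, by omega⟩
  have hij : i ≠ j := by
    intro h
    exact absurd (congrArg Fin.val h) (by simp [i, j])
  refine ⟨transvection i j 1, det_transvection_of_ne _ _ hij _, ?_, ?_⟩
  · have h2 : ∀ m : ℕ, transvection i j (1 : F) ^ m = transvection i j (m : F) := by
      intro m
      induction m with
      | zero => rw [pow_zero, Nat.cast_zero, transvection_zero]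
      | succ m ih => rw [pow_succ, ih, transvection_mul_transvection_same _ _ hij]; push_cast; rfl
    rw [h2, h1, transvection_zero]
  · intro h
    have := congrFun (congrFun h i) j
    rw [one_apply_ne hij] at this
    simp [transvection, one_apply_ne hij] at this

theorem adj_blocks [Finite F] {k j n u v : ℕ} (hn : n = k + j) (hu : u.Prime) (hv : v.Prime) (huv : u ≠ v)
    (h1 : Elt F k u) (h2 : Elt F j v) : Adj (ProjectiveSpecialLinearGroup (Fin n) F) u v := by
  subst hn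
  have hk := h1.pos
  have hj := h2.pos
  obtain ⟨A, hAd, hA, hA1⟩ := h1
  obtain ⟨B, hBd, hB, hB1⟩ := h2
  have e1 : A.det * (1 : Matrix (Fin j) (Fin j) F).det = 1 := by rw [hAd, Matrix.det_one, one_mul]
  have e2 : (1 : Matrix (Fin k) (Fin k) F).det * B.det = 1 := by rw [hBd, Matrix.det_one, one_mul]
  apply adj_of_padj
  refine adj_of_hom (π (k + j) F) (slb_commute e1 e2 (by simp) (by simp)) hu
    hv huv (slb_pow_eq_one e1 hA (one_pow _)) (slb_pow_eq_one e2 (one_pow _) hB) ?_ ?_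
  · apply pi_slb_ne_one
    intro c _ h3 h4
    rw [smul_one_eq_one_iff (by omega)] at h4
    rw [h4, one_smul] at h3
    exact hA1 h3
  · apply pi_slb_ne_one
    intro c _ h3 h4
    rw [smul_one_eq_one_iff (by omega)] at h3
    rw [h3, one_smul] at h4
    exact hB1 h4

/-- elements of order `u` with a small moved space -/
theorem exists_elt [Finite F] {n u : ℕ} (hn : 4 ≤ n) (hu : u.Prime)
    (h : (u : F) = 0 ∨ ∃ k, 1 ≤ k ∧ k ≤ n - 2 ∧ u ∣ Nat.card F ^ k - 1) : ∃ k, k ≤ n - 2 ∧ Elt F k u := by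
  rcases h with h | ⟨k, hk, hkn, h⟩
  · exact ⟨2, by omega, elt_char le_rfl h⟩
  · by_cases h1 : u ∣ Nat.card F - 1
    · exact ⟨2, by omega, elt_root le_rfl hu h1⟩
    · exact ⟨k, hkn, elt_of_dvd hk hu h h1⟩

/-- **Adjacency, `n ≥ 4`.** -/
theorem adj_of_four_le [Finite F] {n u v : ℕ} (hn : 4 ≤ n) (hu : u.Prime) (hv : v.Prime) (huv : u ≠ v)
    (h : (u : F) = 0 ∨ ∃ k, 1 ≤ k ∧ k ≤ n - 2 ∧ u ∣ Nat.card F ^ k - 1) (hv1 : v ∣ Nat.card F - 1) :
    Adj (ProjectiveSpecialLinearGroup (Fin n) F) u v := by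
  obtain ⟨k, hk, h1⟩ := exists_elt hn hu h
  exact adj_blocks (k := k) (j := n - k) (by omega) hu hv huv h1 (elt_root (by omega) hv hv1)

/-! ### cyclic Sylow subgroups -/

section cyc

open Cfsg.Agent.LieExceptional.CyclicSylow

/-- the embedding of `GL_m` in `GL_{m+1}` -/
def up (m : ℕ) (F : Type*) [Field F] : GL (Fin m) F →* GL (Fin (m + 1)) F :=
  Units.map
    { toFun := fun M : Matrix (Fin m) (Fin m) F => mblk M (1 : Matrix (Fin 1) (Fin 1) F)
      map_one' := mblk_one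
      map_mul' := fun A B => by rw [mblk_mul, one_mul] }

theorem up_injective (m : ℕ) : Function.Injective (up m F) := by
  intro A B h
  apply Units.ext
  exact (mblk_inj (congrArg Units.val h)).1

/-- The `p`-part of `|GL_n(q)|` when `p ∤ q`, `p ∤ q ^ n - 1` and `p ∤ q ^ i - 1` for `0 < i < n - 1`. -/
theorem factorization_card_GL' {F : Type*} [Field F] [Finite F] {n : ℕ} (hn : 2 ≤ n) {p : ℕ}
    [Fact p.Prime] (hpq : ¬ p ∣ Nat.card F) (h : ∀ i, 0 < i → i < n - 1 → ¬ p ∣ Nat.card F ^ i - 1)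
    (h1 : ¬ p ∣ Nat.card F ^ n - 1) :
    (Nat.card (GL (Fin n) F)).factorization p = (Nat.card F ^ (n - 1) - 1).factorization p := by
  classical
  let _ : Fintype F := Fintype.ofFinite F
  have hq1 : 1 < Nat.card F := Finite.one_lt_card
  have hcard : Nat.card (GL (Fin n) F) = ∏ i : Fin n, (Nat.card F ^ n - Nat.card F ^ (i : ℕ)) := by
    rw [Nat.card_eq_fintype_card (α := F)]
    exact Matrix.card_GL_field (𝔽 := F) n
  rw [hcard]
  set q := Nat.card F with hq
  have hfac : ∀ i : Fin n, q ^ n - q ^ (i : ℕ) = q ^ (i : ℕ) * (q ^ (n - i) - 1) := by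
    intro i
    rw [Nat.mul_sub, ← pow_add, mul_one]
    congr 2
    omega
  have hpos : ∀ i : Fin n, q ^ (n - (i : ℕ)) - 1 ≠ 0 := by
    intro i
    have : 1 < q ^ (n - (i : ℕ)) := Nat.one_lt_pow (by omega) hq1
    omega
  have hq0 : q ≠ 0 := by omega
  rw [Nat.factorization_prod (fun i _ => by
    rw [hfac i]; exact mul_ne_zero (pow_ne_zero _ hq0) (hpos i))]
  rw [Finsupp.finsetSum_apply]
  rw [Finset.sum_eq_single (⟨1, by omega⟩ : Fin n)]
  · rw [hfac, Nat.factorization_mul (pow_ne_zero _ hq0) (hpos _), Finsupp.add_apply,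
      Nat.factorization_eq_zero_of_not_dvd (fun hd => hpq ((Fact.out : p.Prime).dvd_of_dvd_pow hd)), zero_add]
  · intro i _ hi
    rw [hfac i]
    apply Nat.factorization_eq_zero_of_not_dvd
    intro hd
    rcases (Fact.out : p.Prime).dvd_mul.1 hd with h2 | h2
    · exact hpq ((Fact.out : p.Prime).dvd_of_dvd_pow h2)
    · have hi1 : (i : ℕ) ≠ 1 := fun h0 => hi (Fin.ext h0)
      have hi2 := i.2
      by_cases hi0 : (i : ℕ) = 0
      · rw [hi0] at h2
        exact h1 h2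
      · exact h (n - i) (by omega) (by omega) h2
  · intro h0
    exact absurd (Finset.mem_univ _) h0

theorem isCyclic_of_isPGroup_GL' {F : Type*} [Field F] [Finite F] {n : ℕ} (hn : 2 ≤ n) {p : ℕ}
    [Fact p.Prime] (hpq : ¬ p ∣ Nat.card F) (h : ∀ i, 0 < i → i < n - 1 → ¬ p ∣ Nat.card F ^ i - 1)
    (h1 : ¬ p ∣ Nat.card F ^ n - 1) {Q : Subgroup (GL (Fin n) F)} (hQ : IsPGroup p Q) : IsCyclic Q := by
  classical
  let _ : Fintype F := Fintype.ofFinite F
  obtain ⟨m, rfl⟩ : ∃ m, n = m + 1 := ⟨n - 1, by omega⟩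
  have : NeZero m := ⟨by omega⟩
  obtain ⟨K, _, _, hK, f, hf⟩ := exists_singer F m
  have : Finite (GL (Fin (m + 1)) F) := inferInstance
  refine isCyclic_of_isPGroup_of_hom ((up m F).comp f) ((up_injective m).comp hf) ?_ hQ
  rw [factorization_card_GL' hn hpq h h1, Nat.card_units, hK]
  rfl

/-- coprimality -/
theorem dvd_sub_one_of {q p n : ℕ} (hq : 1 ≤ q) (hp : p.Prime) (hpq : ¬ p ∣ q) (hn : 1 ≤ n) (h1 : p ∣ q ^ n - 1)
    (h2 : p ∣ q ^ (n - 1) - 1) : p ∣ q - 1 := by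
  obtain ⟨m, rfl⟩ : ∃ m, n = m + 1 := ⟨n - 1, by omega⟩
  rw [Nat.add_sub_cancel] at h2
  have hm : 1 ≤ q ^ m := Nat.one_le_pow _ _ hq
  have h3 : q ^ (m + 1) - 1 = q ^ m * (q - 1) + (q ^ m - 1) := by
    have : q ^ (m + 1) = q ^ m * (q - 1) + q ^ m := by
      rw [pow_succ, Nat.mul_sub, mul_one, Nat.sub_add_cancel (Nat.le_mul_of_pos_right _ hq)]
    omega
  rw [h3] at h1
  have h4 := (Nat.dvd_add_left h2).1 h1
  exact (hp.dvd_mul.1 h4).resolve_left fun h => hpq (hp.dvd_of_dvd_pow h)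

/-- **`p`-subgroups of `GL_n(q)`** -/
theorem isCyclic_GL {F : Type*} [Field F] [Finite F] {n : ℕ} (hn : 2 ≤ n) {p : ℕ}
    (hp : p.Prime) (hpq : ¬ p ∣ Nat.card F) (hp1 : ¬ p ∣ Nat.card F - 1)
    (h : ∀ i, 0 < i → i ≤ n - 2 → ¬ p ∣ Nat.card F ^ i - 1)
    {Q : Subgroup (GL (Fin n) F)} (hQ : IsPGroup p Q) : IsCyclic Q := by
  have fp : Fact p.Prime := ⟨hp⟩
  by_cases h1 : p ∣ Nat.card F ^ n - 1
  · have : NeZero n := ⟨by omega⟩
    refine isCyclic_of_isPGroup_GL hpq (fun i hi hin hd => ?_) hQ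
    by_cases h2 : i ≤ n - 2
    · exact h i hi h2 hd
    · have h3 : i = n - 1 := by omega
      subst h3
      exact hp1 (dvd_sub_one_of Finite.one_lt_card.le hp hpq (by omega) h1 hd)
  · exact isCyclic_of_isPGroup_GL' hn hpq (fun i hi hin => h i hi (by omega)) h1 hQ

/-- cyclic Sylow subgroups of quotients -/
theorem cyc_quotient {G : Type*} [Group G] [Finite G] (N : Subgroup G) [N.Normal] {p : ℕ}
    (h : ∀ Q : Subgroup G, IsPGroup p Q → IsCyclic Q) : Cyc (G ⧸ N) p := by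
  intro _ P
  obtain ⟨Q⟩ : Nonempty (Sylow p G) := inferInstance
  have hQ := h Q Q.isPGroup'
  have h1 : IsCyclic (Q.mapSurjective (QuotientGroup.mk'_surjective N)) :=
    isCyclic_of_surjective ((QuotientGroup.mk' N).subgroupMap (Q : Subgroup G))
      ((QuotientGroup.mk' N).subgroupMap_surjective _)
  exact ((Q.mapSurjective (QuotientGroup.mk'_surjective N)).equiv P).isCyclic.1 h1

/-- **Cyclic Sylow subgroups of `PSL_n(q)`.** -/
theorem cyc_psl {F : Type*} [Field F] [Finite F] {n : ℕ} (hn : 2 ≤ n) {p : ℕ}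
    (hp : p.Prime) (hpq : ¬ p ∣ Nat.card F) (hp1 : ¬ p ∣ Nat.card F - 1)
    (h : ∀ i, 0 < i → i ≤ n - 2 → ¬ p ∣ Nat.card F ^ i - 1) : Cyc (ProjectiveSpecialLinearGroup (Fin n) F) p := by
  refine cyc_quotient _ fun Q hQ => ?_
  let f : Matrix.SpecialLinearGroup (Fin n) F →* GL (Fin n) F := Matrix.SpecialLinearGroup.toGL
  have hf : Function.Injective f := Matrix.SpecialLinearGroup.toGL_injective
  have h1 : IsCyclic (Q.map f) := isCyclic_GL hn hp hpq hp1 h (hQ.map f)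
  exact (Q.equivMapOfInjective f hf).isCyclic.2 h1

end cyc

end Cfsg.Agent.H160.NC.LAdj
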