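import Cfsg.Agent.H160.NC.Main
import Cfsg.Agent.H564.PSL
import Cfsg.Agent.ClassicalGeometry.AutPSL.Main

/-!
# Classes of `PSL_n(q)` invariant under automorphisms (helper160, for S4185)
-/

set_option autoImplicit false
set_option linter.unusedSectionVars false
set_option linter.style.haveILetI false

namespace Cfsg.Agent.H160.NC.LClass

open Matrix Cfsg
open Cfsg.Agent.ClassicalGeometry.AutPSL.Root
open Cfsg.Agent.ClassicalGeometry.AutPSL.Auto
open Cfsg.Agent.ClassicalGeometry.AutPSL.Main
open Cfsg.Agent.H160.NC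

section

variable {ι F : Type*} [Fintype ι] [DecidableEq ι] [Field F]

theorem isConj_cj (A D : GL ι F) (x y : Matrix.SpecialLinearGroup ι F) (hdet : (D : Matrix ι ι F).det = (A : Matrix ι ι F).det)
    (hc : (D : Matrix ι ι F) * x = y * (D : Matrix ι ι F)) : IsConj y (cj A x) := by
  have h1 : (A * D⁻¹ : GL ι F).1.det = 1 := by
    have h2 : (A * D⁻¹ : GL ι F).1.det * (D : Matrix ι ι F).det = (A : Matrix ι ι F).det := by
      rw [← det_mul, ← Units.val_mul, inv_mul_cancel_right]
    rw [← hdet] at h2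
    have h3 : (D : Matrix ι ι F).det ≠ 0 := by
      have := (Matrix.isUnit_iff_isUnit_det (D : Matrix ι ι F)).1 D.isUnit
      exact this.ne_zero
    exact mul_right_cancel₀ h3 (by rw [h2, one_mul])
  let B : Matrix.SpecialLinearGroup ι F := ⟨(A * D⁻¹ : GL ι F).1, h1⟩
  rw [isConj_iff]
  refine ⟨B, ?_⟩
  rw [mul_inv_eq_iff_eq_mul]
  apply Subtype.ext
  change (A * D⁻¹ : GL ι F).1 * y.1 = ((A : Matrix ι ι F) * x.1 * ((A⁻¹ : GL ι F) : Matrix ι ι F)) * (A * D⁻¹ : GL ι F).1
  have h4 : (D⁻¹ : GL ι F).1 * y.1 = x.1 * (D⁻¹ : GL ι F).1 := by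
    have e1 : (D⁻¹ : GL ι F).1 * (D : Matrix ι ι F) = 1 := by rw [← Units.val_mul, inv_mul_cancel, Units.val_one]
    have e2 : (D : Matrix ι ι F) * (D⁻¹ : GL ι F).1 = 1 := by rw [← Units.val_mul, mul_inv_cancel, Units.val_one]
    calc (D⁻¹ : GL ι F).1 * y.1 = (D⁻¹ : GL ι F).1 * y.1 * ((D : Matrix ι ι F) * (D⁻¹ : GL ι F).1) := by rw [e2, mul_one]
      _ = (D⁻¹ : GL ι F).1 * (y.1 * (D : Matrix ι ι F)) * (D⁻¹ : GL ι F).1 := by simp only [mul_assoc]
      _ = (D⁻¹ : GL ι F).1 * ((D : Matrix ι ι F) * x.1) * (D⁻¹ : GL ι F).1 := by rw [← hc]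
      _ = ((D⁻¹ : GL ι F).1 * (D : Matrix ι ι F)) * x.1 * (D⁻¹ : GL ι F).1 := by simp only [mul_assoc]
      _ = _ := by rw [e1, one_mul]
  have e3 : ((A⁻¹ : GL ι F) : Matrix ι ι F) * (A : Matrix ι ι F) = 1 := by rw [← Units.val_mul, inv_mul_cancel, Units.val_one]
  calc (A * D⁻¹ : GL ι F).1 * y.1 = (A : Matrix ι ι F) * ((D⁻¹ : GL ι F).1 * y.1) := by rw [Units.val_mul, mul_assoc]
    _ = (A : Matrix ι ι F) * (x.1 * (D⁻¹ : GL ι F).1) := by rw [h4]
    _ = (A : Matrix ι ι F) * x.1 * (((A⁻¹ : GL ι F) : Matrix ι ι F) * (A : Matrix ι ι F)) * (D⁻¹ : GL ι F).1 := by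
        rw [e3, mul_one, mul_assoc]
    _ = _ := by rw [Units.val_mul]; simp only [mul_assoc]

/-- diagonal elements of `GL` -/
noncomputable def dgl (d : ι → F) (h : ∏ i, d i ≠ 0) : GL ι F :=
  Matrix.GeneralLinearGroup.mkOfDetNeZero (diagonal d) (by rwa [det_diagonal])

theorem coe_dgl (d : ι → F) (h : ∏ i, d i ≠ 0) : (dgl d h : Matrix ι ι F) = diagonal d := rfl

/-- an invariant set of conjugate elements -/
theorem isConj_of_set {n : ℕ} {F : Type*} [Field F] [Finite F] (hn : 3 ≤ n)
    (x : Matrix.SpecialLinearGroup (Fin n) F) (Y : Set (Matrix.SpecialLinearGroup (Fin n) F)) (hx : x ∈ Y)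
    (hf : ∀ y ∈ Y, ∀ σ : F ≃+* F, fld σ y ∈ Y) (hi : ∀ y ∈ Y, itr y ∈ Y) (hY : ∀ y ∈ Y, IsConj x y)
    (hD : ∀ y ∈ Y, ∀ a : F, a ≠ 0 → ∃ D : GL (Fin n) F, (D : Matrix (Fin n) (Fin n) F).det = a ∧
      (D : Matrix (Fin n) (Fin n) F) * y = y * (D : Matrix (Fin n) (Fin n) F))
    (θ : MulAut (Matrix.ProjectiveSpecialLinearGroup (Fin n) F)) : IsConj (pr x) (θ (pr x)) := by
  obtain ⟨p, hp⟩ := CharP.exists F
  have hpp : Fact p.Prime := ⟨CharP.char_is_prime F p⟩
  have := Fintype.ofFinite F
  have key : ∀ (A : GL (Fin n) F) (y) (_ : y ∈ Y), IsConj (pr x) (pr (cj A y)) := by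
    intro A y hy
    have hA : (A : Matrix (Fin n) (Fin n) F).det ≠ 0 :=
      ((Matrix.isUnit_iff_isUnit_det (A : Matrix (Fin n) (Fin n) F)).1 A.isUnit).ne_zero
    obtain ⟨D, hD1, hD2⟩ := hD y hy _ hA
    exact (pr : Matrix.SpecialLinearGroup (Fin n) F →* _).map_isConj ((hY y hy).trans (isConj_cj A D y y hD1 hD2))
  rcases surj_three p hn θ with ⟨A, σ, rfl⟩ | ⟨A, σ, rfl⟩
  · rw [lift_pr, MulAut.mul_apply]
    exact key A _ (hf _ hx σ)
  · rw [lift_pr, MulAut.mul_apply, MulAut.mul_apply]
    exact key A _ (hf _ (hi _ hx) σ)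

end

section three

variable {F : Type*} [Field F]

abbrev SL3 (F : Type*) [Field F] := Matrix.SpecialLinearGroup (Fin 3) F

/-- the two root elements -/
def ta (F : Type*) [Field F] : SL3 F := Matrix.SpecialLinearGroup.transvection (i := 0) (j := 1) (by decide) 1

theorem coe_ta : (ta F : Matrix (Fin 3) (Fin 3) F) = !![1, 1, 0; 0, 1, 0; 0, 0, 1] := by
  change (1 : Matrix (Fin 3) (Fin 3) F) + single 0 1 1 = _
  ext i j
  fin_cases i <;> fin_cases j <;> simp

def tb (F : Type*) [Field F] : SL3 F := Matrix.SpecialLinearGroup.transvection (i := 1) (j := 0) (by decide) (-1)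

theorem coe_tb : (tb F : Matrix (Fin 3) (Fin 3) F) = !![1, 0, 0; -1, 1, 0; 0, 0, 1] := by
  change (1 : Matrix (Fin 3) (Fin 3) F) + single 1 0 (-1) = _
  ext i j
  fin_cases i <;> fin_cases j <;> simp

theorem itr_ta : itr (ta F) = tb F := itr_transvection _ _

theorem itr_tb : itr (tb F) = ta F := by
  refine (itr_transvection _ _).trans ?_
  rw [neg_neg]
  rfl

/-- the Weyl element -/
def wab (F : Type*) [Field F] : SL3 F := ⟨!![0, 1, 0; -1, 0, 0; 0, 0, 1], by rw [det_fin_three]; simp⟩

theorem isConj_ta_tb : IsConj (ta F) (tb F) := by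
  rw [isConj_iff]
  refine ⟨wab F, ?_⟩
  rw [mul_inv_eq_iff_eq_mul]
  apply Subtype.ext
  change !![0, 1, 0; -1, 0, 0; 0, 0, 1] * (ta F : Matrix (Fin 3) (Fin 3) F) =
    (tb F : Matrix (Fin 3) (Fin 3) F) * !![0, 1, 0; -1, 0, 0; 0, 0, 1]
  rw [coe_ta, coe_tb]
  ext i j
  fin_cases i <;> fin_cases j <;> simp [Matrix.mul_apply, Fin.sum_univ_three]

/-- **The transvections of `PSL_3(q)`.** -/
theorem one_char [Finite F] {p : ℕ} (hp : p.Prime) [CharP F p] : One (Matrix.ProjectiveSpecialLinearGroup (Fin 3) F) p := by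
  refine ⟨pr (ta F), ?_, ?_⟩
  · have fp : Fact p.Prime := ⟨hp⟩
    apply orderOf_eq_prime
    · rw [← map_pow]
      have h1 : ∀ k : ℕ, (ta F) ^ k = Matrix.SpecialLinearGroup.transvection (i := 0) (j := 1) (by decide) (k : F) := by
        intro k
        induction k with
        | zero =>
          rw [pow_zero]
          apply Subtype.ext
          change (1 : Matrix (Fin 3) (Fin 3) F) = 1 + single 0 1 ((0 : ℕ) : F)
          rw [Nat.cast_zero, single_zero, add_zero]
        | succ k ih =>
          rw [pow_succ, ih]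
          apply Subtype.ext
          change ((1 : Matrix (Fin 3) (Fin 3) F) + single 0 1 (k : F)) * (1 + single 0 1 1) = 1 + single 0 1 ((k + 1 : ℕ) : F)
          rw [mul_add, mul_one, add_mul, one_mul, Matrix.single_mul_single_of_ne _ _ _ _ (by decide), add_zero, add_assoc,
            ← single_add]
          push_cast
          rfl
      rw [h1, CharP.cast_eq_zero]
      have h2 : Matrix.SpecialLinearGroup.transvection (i := (0 : Fin 3)) (j := 1) (by decide) (0 : F) = 1 := by
        apply Subtype.ext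
        change (1 : Matrix (Fin 3) (Fin 3) F) + single 0 1 0 = 1
        rw [single_zero, add_zero]
      rw [h2, map_one]
    · rw [Ne, pr_eq_one_iff, Matrix.SpecialLinearGroup.mem_center_iff]
      rintro ⟨r, -, hr⟩
      rw [coe_ta] at hr
      have := congrFun (congrFun hr 0) 1
      simp at this
  · refine isConj_of_set le_rfl (ta F) {ta F, tb F} (by simp) ?_ ?_ ?_ ?_
    · rintro y (rfl | rfl) σ
      · left
        refine (fld_transvection _ _ _).trans ?_
        rw [map_one]
        rfl
      · right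
        refine (fld_transvection _ _ _).trans ?_
        rw [map_neg, map_one]
        rfl
    · rintro y (rfl | rfl)
      · right; exact itr_ta
      · left; exact itr_tb
    · rintro y (rfl | rfl)
      · exact IsConj.refl _
      · exact isConj_ta_tb
    · intro y hy a ha
      refine ⟨dgl ![1, 1, a] (by rw [Fin.prod_univ_three]; simpa using ha), ?_, ?_⟩
      · rw [coe_dgl, det_diagonal, Fin.prod_univ_three]
        simp
      · rw [coe_dgl]
        rcases hy with rfl | rfl
        · rw [coe_ta]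
          ext i j
          fin_cases i <;> fin_cases j <;> simp [Matrix.mul_apply, Matrix.diagonal]
        · rw [coe_tb]
          ext i j
          fin_cases i <;> fin_cases j <;> simp [Matrix.mul_apply, Matrix.diagonal]

/-! ### elements of order three -/

/-- the diagonal element -/
def da (w : F) (hw : w ^ 3 = 1) : SL3 F := ⟨!![1, 0, 0; 0, w, 0; 0, 0, w * w], by
  rw [det_fin_three]
  simp
  linear_combination hw⟩

theorem coe_da (w : F) (hw : w ^ 3 = 1) : (da w hw : Matrix (Fin 3) (Fin 3) F) = !![1, 0, 0; 0, w, 0; 0, 0, w * w] := rfl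

theorem isConj_da (w : F) (hw : w ^ 3 = 1) :
    IsConj (da w hw) (da (w * w) (by rw [mul_pow, hw, one_mul])) := by
  let C : SL3 F := ⟨!![-1, 0, 0; 0, 0, 1; 0, 1, 0], by rw [det_fin_three]; simp⟩
  rw [isConj_iff]
  refine ⟨C, ?_⟩
  rw [mul_inv_eq_iff_eq_mul]
  apply Subtype.ext
  change !![-1, 0, 0; 0, 0, 1; 0, 1, 0] * !![1, 0, 0; 0, w, 0; 0, 0, w * w] =
    !![1, 0, 0; 0, w * w, 0; 0, 0, w * w * (w * w)] * !![-1, 0, 0; 0, 0, 1; 0, 1, 0]
  have h4 : w * w * (w * w) = w := by linear_combination w * hw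
  rw [h4]
  ext i j
  fin_cases i <;> fin_cases j <;> simp [Matrix.mul_apply, Fin.sum_univ_three]

theorem itr_da (w : F) (hw : w ^ 3 = 1) : itr (da w hw) = da (w * w) (by rw [mul_pow, hw, one_mul]) := by
  have h4 : w * w * (w * w) = w := by linear_combination w * hw
  have h1 : (da w hw)⁻¹ = da (w * w) (by rw [mul_pow, hw, one_mul]) := by
    rw [inv_eq_iff_mul_eq_one]
    apply Subtype.ext
    change !![1, 0, 0; 0, w, 0; 0, 0, w * w] * !![1, 0, 0; 0, w * w, 0; 0, 0, w * w * (w * w)] = 1
    rw [h4]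
    have h5 : w * (w * w) = 1 := by linear_combination hw
    have h6 : w * w * w = 1 := by linear_combination hw
    ext i j
    fin_cases i <;> fin_cases j <;> simp [Matrix.mul_apply, Fin.sum_univ_three, h5, h6]
  apply Subtype.ext
  rw [coe_itr, h1, coe_da]
  ext i j
  fin_cases i <;> fin_cases j <;> simp

/-- **The elements of order three of `PSL_3(q)`, `3 ∣ q - 1`.** -/
theorem one_three [Finite F] {w : F} (hw : w ^ 3 = 1) (hw1 : w ≠ 1) :
    One (Matrix.ProjectiveSpecialLinearGroup (Fin 3) F) 3 := by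
  have hww : (w * w) ^ 3 = 1 := by rw [mul_pow, hw, one_mul]
  have hq : w * w + w + 1 = 0 := by
    have h1 : (w - 1) * (w * w + w + 1) = 0 := by linear_combination hw
    exact (mul_eq_zero.1 h1).resolve_left (sub_ne_zero.2 hw1)
  have h4 : w * w * (w * w) = w := by linear_combination w * hw
  refine ⟨pr (da w hw), ?_, ?_⟩
  · have fp : Fact (Nat.Prime 3) := ⟨Nat.prime_three⟩
    apply orderOf_eq_prime
    · rw [← map_pow]
      have h1 : (da w hw) ^ 3 = 1 := by
        rw [pow_succ, pow_two]
        apply Subtype.ext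
        change !![1, 0, 0; 0, w, 0; 0, 0, w * w] * !![1, 0, 0; 0, w, 0; 0, 0, w * w] * !![1, 0, 0; 0, w, 0; 0, 0, w * w] = 1
        have h5 : w * w * w = 1 := by linear_combination hw
        have h6 : w * w * (w * w) * (w * w) = 1 := by linear_combination (w ^ 3 + 1) * hw
        ext i j
        fin_cases i <;> fin_cases j <;> simp [Matrix.mul_apply, Fin.sum_univ_three, h5, h6]
      rw [h1, map_one]
    · rw [Ne, pr_eq_one_iff, Matrix.SpecialLinearGroup.mem_center_iff]
      rintro ⟨r, -, hr⟩
      rw [coe_da] at hr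
      have e1 := congrFun (congrFun hr 0) 0
      have e2 := congrFun (congrFun hr 1) 1
      simp at e1 e2
      exact hw1 (e2.symm.trans e1)
  · refine isConj_of_set le_rfl (da w hw) {da w hw, da (w * w) hww} (by simp) ?_ ?_ ?_ ?_
    · have hσ : ∀ σ : F ≃+* F, σ w = w ∨ σ w = w * w := by
        intro σ
        have h1 : (σ w - 1) * (σ w - w) * (σ w - w * w) = 0 := by
          have h2 : σ w ^ 3 = 1 := by rw [← map_pow, hw, map_one]
          have h3 : w ^ 3 = 1 := hw
          linear_combination h2 - (σ w) ^ 2 * hq + σ w * w * hq - hw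
        rcases mul_eq_zero.1 h1 with h2 | h2
        · rcases mul_eq_zero.1 h2 with h3 | h3
          · exfalso
            apply hw1
            apply σ.injective
            rw [map_one]
            exact sub_eq_zero.1 h3
          · left; exact sub_eq_zero.1 h3
        · right; exact sub_eq_zero.1 h2
      have hfld : ∀ (v : F) (hv : v ^ 3 = 1) (σ : F ≃+* F), fld σ (da v hv) = da (σ v) (by rw [← map_pow, hv, map_one]) := by
        intro v hv σ
        apply Subtype.ext
        ext i j
        rw [coe_fld_apply, coe_da, coe_da]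
        fin_cases i <;> fin_cases j <;> simp
      rintro y (rfl | rfl) σ
      · rw [hfld]
        rcases hσ σ with h | h
        · left; congr 1
        · right
          simp only [Set.mem_singleton_iff]
          congr 1
      · rw [hfld]
        rcases hσ σ with h | h
        · right
          simp only [Set.mem_singleton_iff]
          congr 1
          rw [map_mul, h]
        · left
          congr 1
          rw [map_mul, h, h4]
    · rintro y (rfl | rfl)
      · right; exact itr_da _ _
      · left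
        rw [itr_da]
        congr 1
    · rintro y (rfl | rfl)
      · exact IsConj.refl _
      · exact isConj_da w hw
    · intro y hy a ha
      refine ⟨dgl ![1, 1, a] (by rw [Fin.prod_univ_three]; simpa using ha), ?_, ?_⟩
      · rw [coe_dgl, det_diagonal, Fin.prod_univ_three]
        simp
      · rw [coe_dgl]
        have key : ∀ (v : F) (hv : v ^ 3 = 1), diagonal ![1, 1, a] * (da v hv : Matrix (Fin 3) (Fin 3) F) =
            (da v hv : Matrix (Fin 3) (Fin 3) F) * diagonal ![1, 1, a] := by
          intro v hv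
          rw [coe_da]
          ext i j
          fin_cases i <;> fin_cases j <;> simp [Matrix.mul_apply, Matrix.diagonal, mul_comm]
        rcases hy with rfl | rfl
        · exact key _ _
        · exact key _ _

end three

/-! ### `PSL_2(q)` -/

section two

variable {F : Type*} [Field F]

abbrev SL2 (F : Type*) [Field F] := Matrix.SpecialLinearGroup (Fin 2) F

def tt (c : F) : SL2 F := Matrix.SpecialLinearGroup.transvection (i := 0) (j := 1) (by decide) c

theorem coe_tt (c : F) : (tt c : Matrix (Fin 2) (Fin 2) F) = !![1, c; 0, 1] := by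
  change (1 : Matrix (Fin 2) (Fin 2) F) + single 0 1 c = _
  ext i j
  fin_cases i <;> fin_cases j <;> simp

/-- **The elements of order `p` of `PSL_2(q)`.** -/
theorem two_char [Finite F] {p : ℕ} (hp : p.Prime) (hp2 : p ≠ 2) [CharP F p] :
    Two (Matrix.ProjectiveSpecialLinearGroup (Fin 2) F) p := by
  classical
  have fp : Fact p.Prime := ⟨hp⟩
  have := Fintype.ofFinite F
  have hF : ringChar F ≠ 2 := by
    rw [ringChar.eq F p]
    exact hp2
  obtain ⟨v, hv⟩ := FiniteField.exists_nonsquare hF
  have hv0 : v ≠ 0 := by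
    rintro rfl
    exact hv ⟨0, by rw [mul_zero]⟩
  refine ⟨pr (tt 1), pr (tt v), ?_, ?_⟩
  · apply orderOf_eq_prime
    · rw [← map_pow]
      have h1 : ∀ k : ℕ, (tt (1 : F)) ^ k = tt (k : F) := by
        intro k
        induction k with
        | zero =>
          rw [pow_zero]
          apply Subtype.ext
          change (1 : Matrix (Fin 2) (Fin 2) F) = 1 + single 0 1 ((0 : ℕ) : F)
          rw [Nat.cast_zero, single_zero, add_zero]
        | succ k ih =>
          rw [pow_succ, ih]
          apply Subtype.ext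
          change ((1 : Matrix (Fin 2) (Fin 2) F) + single 0 1 (k : F)) * (1 + single 0 1 1) = 1 + single 0 1 ((k + 1 : ℕ) : F)
          rw [mul_add, mul_one, add_mul, one_mul, Matrix.single_mul_single_of_ne _ _ _ _ (by decide), add_zero, add_assoc,
            ← single_add]
          push_cast
          rfl
      rw [h1, CharP.cast_eq_zero]
      have h2 : tt (0 : F) = 1 := by
        apply Subtype.ext
        change (1 : Matrix (Fin 2) (Fin 2) F) + single 0 1 0 = 1
        rw [single_zero, add_zero]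
      rw [h2, map_one]
    · rw [Ne, pr_eq_one_iff, Matrix.SpecialLinearGroup.mem_center_iff]
      rintro ⟨r, -, hr⟩
      rw [coe_tt] at hr
      have := congrFun (congrFun hr 0) 1
      simp at this
  · intro θ
    obtain ⟨A, σ, rfl⟩ := surj_two p θ
    rw [lift_pr, MulAut.mul_apply]
    have h1 : fld σ (tt 1) = tt 1 := by
      refine (fld_transvection _ _ _).trans ?_
      rw [map_one]
      rfl
    rw [h1]
    have hA : (A : Matrix (Fin 2) (Fin 2) F).det ≠ 0 :=
      ((Matrix.isUnit_iff_isUnit_det (A : Matrix (Fin 2) (Fin 2) F)).1 A.isUnit).ne_zero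
    by_cases hsq : IsSquare (A : Matrix (Fin 2) (Fin 2) F).det
    · left
      obtain ⟨a, ha⟩ := hsq
      have ha0 : a ≠ 0 := by
        rintro rfl
        rw [mul_zero] at ha
        exact hA ha
      refine (pr : SL2 F →* _).map_isConj (isConj_cj A (dgl ![a, a] ?_) _ _ ?_ ?_)
      · rw [Fin.prod_univ_two]; simpa using ha0
      · rw [coe_dgl, det_diagonal, Fin.prod_univ_two, ha]; simp
      · rw [coe_dgl, coe_tt]
        ext i j
        fin_cases i <;> fin_cases j <;> simp [Matrix.mul_apply, Matrix.diagonal]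
    · right
      have hsq2 : IsSquare ((A : Matrix (Fin 2) (Fin 2) F).det * v) := by
        have h2 : quadraticChar F ((A : Matrix (Fin 2) (Fin 2) F).det * v) = 1 := by
          rw [map_mul, quadraticChar_neg_one_iff_not_isSquare.2 hsq, quadraticChar_neg_one_iff_not_isSquare.2 hv]
          norm_num
        exact (quadraticChar_one_iff_isSquare (mul_ne_zero hA hv0)).1 h2
      obtain ⟨b, hb⟩ := hsq2
      -- `det A = v * (b / v) ^ 2`
      have hb0 : b ≠ 0 := by
        rintro rfl
        rw [mul_zero] at hb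
        exact (mul_ne_zero hA hv0) hb
      have hdet : (A : Matrix (Fin 2) (Fin 2) F).det = b * (b * v⁻¹) := by
        rw [← mul_assoc, ← hb, mul_assoc, mul_inv_cancel₀ hv0, mul_one]
      refine (pr : SL2 F →* _).map_isConj (isConj_cj A (dgl ![b, b * v⁻¹] ?_) _ _ ?_ ?_)
      · rw [Fin.prod_univ_two]
        simpa using ⟨hb0, hv0⟩
      · rw [coe_dgl, det_diagonal, Fin.prod_univ_two, hdet]; simp
      · rw [coe_dgl, coe_tt, coe_tt]
        ext i j
        fin_cases i <;> fin_cases j <;> simp [Matrix.mul_apply, Matrix.diagonal]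
        rw [mul_comm v, mul_assoc, inv_mul_cancel₀ hv0, mul_one]

end two

end Cfsg.Agent.H160.NC.LClass
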