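import Cfsg.Agent.H160.NC.Crit
import Cfsg.Agent.H160.NC.LAdj
import Cfsg.Agent.H160.NC.LClass
import Cfsg.Agent.S0262
import Cfsg.Agent.S2601
import Cfsg.Agent.S2602

/-!
# The row `PSL_n(q)` (helper160, for S4185)
-/

set_option autoImplicit false
set_option linter.unusedSectionVars false

namespace Cfsg.Agent.H160.NC.RowL

open Matrix Cfsg Subgroup
open Cfsg.Agent.H94.PG (Adj adj_of_dvd)
open Cfsg.Agent.H371 Cfsg.Agent.H371.Psl
open Cfsg.Agent.H160.NC Cfsg.Agent.H160.NC.LAdj

variable {F : Type*} [Field F]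

theorem cast_eq_zero_iff [Finite F] {s : ℕ} (hs : s.Prime) : (s : F) = 0 ↔ s ∣ Nat.card F := by
  obtain ⟨p, hp⟩ := CharP.exists F
  have hpp : p.Prime := CharP.char_is_prime F p
  have fp : Fact p.Prime := ⟨hpp⟩
  have := Fintype.ofFinite F
  obtain ⟨f, -, hf⟩ := FiniteField.card F p
  rw [Nat.card_eq_fintype_card, hf, CharP.cast_eq_zero_iff F p]
  constructor
  · intro h
    rw [(Nat.prime_dvd_prime_iff_eq hpp hs).1 h]
    exact dvd_pow_self _ f.ne_zero
  · intro h
    rw [(Nat.prime_dvd_prime_iff_eq hs hpp).1 (hs.dvd_of_dvd_pow h)]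

/-- elements of order 2 -/
theorem elt_two [Finite F] {k : ℕ} (hk : 2 ≤ k) : Elt F k 2 := by
  by_cases h : ((2 : ℕ) : F) = 0
  · exact elt_char hk h
  · refine elt_root hk Nat.prime_two ?_
    rw [cast_eq_zero_iff Nat.prime_two] at h
    have := Finite.one_lt_card (α := F)
    omega

theorem dvd_card_psl [Finite F] {n k s : ℕ} (hkn : k < n) (hs : s.Prime) (h : Elt F k s) :
    s ∣ Nat.card (ProjectiveSpecialLinearGroup (Fin n) F) := by
  obtain ⟨j, rfl⟩ : ∃ j, n = k + j := ⟨n - k, by omega⟩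
  obtain ⟨A, hAd, hA, hA1⟩ := h
  have e1 : A.det * (1 : Matrix (Fin j) (Fin j) F).det = 1 := by rw [hAd, Matrix.det_one, one_mul]
  have h1 : π (k + j) F (slb A 1 e1) ≠ 1 := by
    apply pi_slb_ne_one
    intro c _ h3 h4
    rw [smul_one_eq_one_iff (by omega)] at h4
    rw [h4, one_smul] at h3
    exact hA1 h3
  have h2 : π (k + j) F (slb A 1 e1) ^ s = 1 := by
    rw [← map_pow, slb_pow_eq_one e1 hA (one_pow _), map_one]
  have fs : Fact s.Prime := ⟨hs⟩
  rw [← orderOf_eq_prime h2 h1]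
  exact _root_.orderOf_dvd_natCard _

/-- primes at most `n` divide the order -/
theorem dvd_card_of_le [Finite F] {n s : ℕ} (hn : 3 ≤ n) (hs : s.Prime) (hsn : s ≤ n) :
    s ∣ Nat.card (ProjectiveSpecialLinearGroup (Fin n) F) := by
  by_cases h : (s : F) = 0
  · exact dvd_card_psl (k := 2) (by omega) hs (elt_char le_rfl h)
  · by_cases h1 : s ∣ Nat.card F - 1
    · exact dvd_card_psl (k := 2) (by omega) hs (elt_root le_rfl hs h1)
    · have fs : Fact s.Prime := ⟨hs⟩
      have h2 : Nat.Coprime (Nat.card F) s := by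
        rw [cast_eq_zero_iff hs] at h
        exact ((Nat.Prime.coprime_iff_not_dvd hs).2 h).symm
      have h3 : s ∣ Nat.card F ^ (s - 1) - 1 := by
        have h4 := Nat.ModEq.pow_totient h2
        rw [Nat.totient_prime hs] at h4
        exact (Nat.modEq_iff_dvd' (Nat.one_le_pow _ _ Nat.card_pos)).1 h4.symm
      have := hs.two_le
      exact dvd_card_psl (k := s - 1) (by omega) hs (elt_of_dvd (by omega) hs h3 h1)

/-- **two-part** -/
theorem okTwo_psl [Finite F] {n : ℕ} (hn : 3 ≤ n) {s : ℕ} (hs : s.Prime) (hs2 : s ≠ 2) :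
    OkTwo (ProjectiveSpecialLinearGroup (Fin n) F) s := by
  by_cases h0 : (s : F) = 0
  · exact Or.inl (H564.PSLn.adj_two_of_char hn hs hs2 h0).symm
  have h0' : ¬ s ∣ Nat.card F := by rwa [← cast_eq_zero_iff hs]
  rcases Nat.lt_or_ge 3 n with h4 | h4
  · by_cases h1 : ∃ k, 1 ≤ k ∧ k ≤ n - 2 ∧ s ∣ Nat.card F ^ k - 1
    · obtain ⟨k, hk, h2⟩ := exists_elt (F := F) (n := n) (by omega) hs (Or.inr h1)
      exact Or.inl (adj_blocks (k := k) (j := n - k) (by omega) hs Nat.prime_two hs2 h2 (elt_two (by omega))).symm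
    · push Not at h1
      refine Or.inr (Or.inl (cyc_psl (by omega) hs h0' ?_ fun i hi hin => h1 i hi hin))
      have := h1 1 le_rfl (by omega)
      rwa [pow_one] at this
  · obtain rfl : n = 3 := by omega
    by_cases h1 : s ∣ Nat.card F - 1
    · by_cases hs3 : s = 3
      · subst hs3
        right; right
        obtain ⟨a, ha, ha1⟩ := H564.PSLn.exists_order Nat.prime_three h1
        obtain ⟨x, hx, h⟩ := LClass.one_three ha ha1
        exact ⟨x, x, hx, fun θ => Or.inl (h θ)⟩
      · obtain ⟨b, -, -, -, h⟩ := H564.PSLn.adj_two_three hs hs2 hs3 h1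
        exact Or.inl h.symm
    · refine Or.inr (Or.inl (cyc_psl (by omega) hs h0' h1 fun i hi hin => ?_))
      have : i = 1 := by omega
      subst this
      rwa [pow_one]

/-- **odd part** -/
theorem okOdd_psl [Finite F] {n : ℕ} (hn : 3 ≤ n) {r s : ℕ} (hr : r.Prime) (hr2 : r ≠ 2) (hrn : r ∣ n)
    (hrq : r ∣ Nat.card F - 1) (hs : s.Prime) (hsr : s ≠ r) : OkOdd (ProjectiveSpecialLinearGroup (Fin n) F) r s := by
  rcases Nat.lt_or_ge 3 n with h4 | h4
  · by_cases h1 : (s : F) = 0 ∨ ∃ k, 1 ≤ k ∧ k ≤ n - 2 ∧ s ∣ Nat.card F ^ k - 1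
    · exact Or.inl (adj_of_four_le (by omega) hs hr hsr h1 hrq).symm
    · push Not at h1
      rw [Ne, cast_eq_zero_iff hs] at h1
      refine Or.inr (Or.inl (cyc_psl (by omega) hs h1.1 ?_ fun i hi hin => h1.2 i hi hin))
      have := h1.2 1 le_rfl (by omega)
      rwa [pow_one] at this
  · obtain rfl : n = 3 := by omega
    have hr3 : r = 3 := (Nat.prime_dvd_prime_iff_eq hr Nat.prime_three).1 hrn
    subst hr3
    by_cases h0 : (s : F) = 0
    · have : CharP F s := by
        obtain ⟨p, hp⟩ := CharP.exists F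
        have hpp : p.Prime := CharP.char_is_prime F p
        have h1 := (CharP.cast_eq_zero_iff F p s).1 h0
        rwa [(Nat.prime_dvd_prime_iff_eq hpp hs).1 h1] at hp
      exact Or.inr (Or.inr (Or.inl (LClass.one_char hs)))
    have h0' : ¬ s ∣ Nat.card F := by rwa [← cast_eq_zero_iff hs]
    by_cases h1 : s ∣ Nat.card F - 1
    · left
      obtain ⟨b, hb, hb1⟩ := H564.PSLn.exists_order hs h1
      obtain ⟨ζ, hζ, hζ1⟩ := H564.PSLn.exists_order Nat.prime_three hrq
      have hb0 : b ≠ 0 := by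
        rintro rfl
        rw [zero_pow hs.ne_zero] at hb
        exact zero_ne_one hb
      refine H564.PSLn.adj_three_of_diag hζ hζ1 hs hsr hb hb0 ?_
      intro h
      have h1 : b ^ 3 = 1 := by rw [← h]; ring
      have h2 : orderOf b ∣ Nat.gcd s 3 := Nat.dvd_gcd (orderOf_dvd_of_pow_eq_one hb) (orderOf_dvd_of_pow_eq_one h1)
      rw [(Nat.coprime_primes hs Nat.prime_three).2 hsr, Nat.dvd_one, orderOf_eq_one_iff] at h2
      exact hb1 h2
    · refine Or.inr (Or.inl (cyc_psl (by omega) hs h0' h1 fun i hi hin => ?_))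
      have : i = 1 := by omega
      subst this
      rwa [pow_one]

/-- **`PSL_n(q)`, `n ≥ 3`** -/
theorem row_three [Finite F] {n : ℕ} (hn : 3 ≤ n) : Row (ProjectiveSpecialLinearGroup (Fin n) F) where
  two _ s hs hs2 _ := okTwo_psl hn hs hs2
  out := by
    right
    have := Fintype.ofFinite F
    obtain ⟨p, hp⟩ := CharP.exists F
    have hpp : p.Prime := CharP.char_is_prime F p
    have fp : Fact p.Prime := ⟨hpp⟩
    obtain ⟨f, -, hf⟩ := FiniteField.card F p
    obtain ⟨φ, -, -, hcard⟩ := S2601.result (n := n) f.pos hf hn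
    have hq : Nat.card F = p ^ (f : ℕ) := by rw [Nat.card_eq_fintype_card, hf]
    rw [← hq] at hcard
    have hle := commutator_le_ker φ
    refine ⟨?_, ?_⟩
    · intro s hs hsd a ha
      refine mem_center_of_card_lt φ.ker hle hs ?_ a ha
      rw [hcard]
      by_contra hlt
      push Not at hlt
      exact hsd (dvd_card_of_le hn hs (hlt.trans (Nat.le_of_dvd (by omega) (Nat.gcd_dvd_left _ _))))
    · intro r hr hr2 hd
      have h1 : r ∣ Nat.gcd n (Nat.card F - 1) := by
        rw [← hcard]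
        exact hd.trans (Subgroup.card_dvd_of_le hle)
      have hrn := h1.trans (Nat.gcd_dvd_left _ _)
      have hrq := h1.trans (Nat.gcd_dvd_right _ _)
      exact ⟨dvd_card_psl (k := 2) (by omega) hr (elt_root le_rfl hr hrq), fun s hs hsr _ =>
        okOdd_psl hn hr hr2 hrn hrq hs hsr⟩

/-- **`PSL_2(q)`** -/
theorem row_two [Finite F] (h4 : 4 ≤ Nat.card F) : Row (ProjectiveSpecialLinearGroup (Fin 2) F) where
  two _ s hs hs2 _ := by
    have := Fintype.ofFinite F
    obtain ⟨p, hp⟩ := CharP.exists F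
    have hpp : p.Prime := CharP.char_is_prime F p
    have fp : Fact p.Prime := ⟨hpp⟩
    by_cases hsp : s = p
    · subst hsp
      exact Or.inr (Or.inr (LClass.two_char hpp hs2))
    · right; left
      refine cyc_quotient _ fun Q hQ => ?_
      have fs : Fact s.Prime := ⟨hs⟩
      obtain ⟨P, hP⟩ := hQ.exists_le_sylow
      have h1 := S0262.result (F := F) p s hs2 hsp P
      exact isCyclic_of_injective (Subgroup.inclusion hP) (Subgroup.inclusion_injective hP)
  out := by
    left
    intro A hA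
    have := Fintype.ofFinite F
    obtain ⟨p, hp⟩ := CharP.exists F
    have hpp : p.Prime := CharP.char_is_prime F p
    have fp : Fact p.Prime := ⟨hpp⟩
    obtain ⟨f, -, hf⟩ := FiniteField.card F p
    obtain ⟨φ, -, -, hcard⟩ := S2602.result f.pos hf (by rw [← hf, ← Nat.card_eq_fintype_card]; exact h4)
    have hC : IsCyclic (Multiplicative (ZMod f)) := inferInstance
    refine cyclic_of_twoCyc φ (fun a ha => ⟨1, ?_⟩) A hA
    have h1 : orderOf a ∣ Nat.card φ.ker := by
      rw [← Subgroup.orderOf_mk a (MonoidHom.mem_ker.2 ha)]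
      exact _root_.orderOf_dvd_natCard _
    rw [hcard] at h1
    exact orderOf_dvd_iff_pow_eq_one.1 (h1.trans (Nat.gcd_dvd_left _ _))

end Cfsg.Agent.H160.NC.RowL
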