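import Cfsg.Agent.H160.NC.Main
import Cfsg.Agent.S0204

/-!
# Noncyclic outer part: the main lemma and the reduction (helper160, for S4185)
-/

set_option autoImplicit false
set_option linter.unusedSectionVars false

namespace Cfsg.Agent.H160.NC

open Subgroup
open Cfsg (Out Inn)
open Cfsg.Agent.H94.PG (Adj adj_of_dvd)

/-- coprime automorphisms of odd prime order fix involutions -/
def CopInv (S : Type*) [Group S] : Prop :=
  ∀ s : ℕ, s.Prime → s ≠ 2 → ¬ s ∣ Nat.card S → ∀ x : MulAut S, x ^ s = 1 → ∃ g : S, orderOf g = 2 ∧ x g = g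

section ToOut

variable {X : Type*} [Group X] (S : Subgroup X) [hSn : S.Normal]

/-- the homomorphism to the outer automorphism group -/
noncomputable def toOut : X →* Out S := (QuotientGroup.mk' (Inn S)).comp (MulAut.conjNormal (H := S))

theorem toOut_ker (hC : centralizer (S : Set X) = ⊥) : (toOut S).ker = S := by
  ext g
  rw [MonoidHom.mem_ker]
  change (QuotientGroup.mk' (Inn S)) (MulAut.conjNormal g) = 1 ↔ _
  rw [QuotientGroup.mk'_apply, QuotientGroup.eq_one_iff]
  constructor
  · rintro ⟨t, ht⟩
    have h1 : (t : X)⁻¹ * g ∈ centralizer (S : Set X) := by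
      rw [mem_centralizer_iff]
      intro x hx
      have h2 := congrArg Subtype.val (DFunLike.congr_fun ht (⟨x, hx⟩ : S))
      rw [MulAut.conj_apply, MulAut.conjNormal_apply] at h2
      have h3 : (t : X) * x * (t : X)⁻¹ = g * x * g⁻¹ := h2
      calc x * ((t : X)⁻¹ * g) = (t : X)⁻¹ * ((t : X) * x * (t : X)⁻¹) * g := by group
        _ = (t : X)⁻¹ * (g * x * g⁻¹) * g := by rw [h3]
        _ = _ := by group
    rw [hC, mem_bot] at h1
    have h2 : g = t := by
      have : g = (t : X) * ((t : X)⁻¹ * g) := by group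
      rw [this, h1, mul_one]
    rw [h2]
    exact t.2
  · intro hg
    refine ⟨⟨g, hg⟩, ?_⟩
    ext x
    rw [MulAut.conj_apply, MulAut.conjNormal_apply]
    rfl

/-- the induced injective homomorphism -/
noncomputable def emb (hC : centralizer (S : Set X) = ⊥) : X ⧸ S →* Out S :=
  QuotientGroup.lift S (toOut S) (fun g hg => by rw [toOut_ker S hC]; exact hg)

theorem emb_injective (hC : centralizer (S : Set X) = ⊥) : Function.Injective (emb S hC) := by
  rw [injective_iff_map_eq_one]
  intro a ha
  obtain ⟨g, rfl⟩ := QuotientGroup.mk_surjective a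
  have h1 : toOut S g = 1 := ha
  rw [← MonoidHom.mem_ker, toOut_ker S hC] at h1
  exact (QuotientGroup.eq_one_iff g).2 h1

end ToOut

/-! ### Z-groups -/

open scoped IsMulCommutative in
/-- a group with cyclic Sylow 2-subgroups has derived group of odd order -/
theorem odd_commutator {A : Type*} [Group A] [Finite A] (h : ∀ C : Subgroup A, IsPGroup 2 C → IsCyclic C) :
    ¬ 2 ∣ Nat.card (commutator A) := by
  intro hd
  have f2 : Fact (Nat.Prime 2) := ⟨Nat.prime_two⟩
  obtain ⟨P⟩ : Nonempty (Sylow 2 A) := inferInstance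
  have hP : IsCyclic P := h P P.isPGroup'
  have h2 : 2 ∣ Nat.card A := hd.trans (card_subgroup_dvd_card _)
  have hmin : (Nat.card A).minFac = 2 := by
    rw [Nat.minFac_eq_two_iff]; exact h2
  have h1 := IsCyclic.normalizer_le_centralizer hmin hP
  have h3 := MonoidHom.ker_transferSylow_isComplement' P h1
  have h4 : commutator A ≤ (MonoidHom.transferSylow P h1).ker := Abelianization.commutator_subset_ker _
  have h5 : Nat.card (MonoidHom.transferSylow P h1).ker * Nat.card P = Nat.card A := h3.card_mul_card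
  have h6 : 2 ∣ Nat.card (MonoidHom.transferSylow P h1).ker := hd.trans (card_dvd_of_le h4)
  have h7 : (P : Subgroup A).index = Nat.card (MonoidHom.transferSylow P h1).ker := h3.index_eq_card
  exact P.not_dvd_index (h7 ▸ h6)

/-- abelian with cyclic Sylow subgroups is cyclic -/
theorem commutator_ne_bot {A : Type*} [Group A] [Finite A] (hnc : ¬ IsCyclic A)
    (h : ∀ (p : ℕ) (C : Subgroup A), p.Prime → IsPGroup p C → IsCyclic C) : commutator A ≠ ⊥ := by
  intro h1
  apply hnc
  have hcomm : ∀ a b : A, a * b = b * a := by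
    intro a b
    have h2 : a * b * a⁻¹ * b⁻¹ ∈ commutator A := by
      rw [_root_.commutator_def]
      exact Subgroup.commutator_mem_commutator (mem_top a) (mem_top b)
    rw [h1, mem_bot] at h2
    calc a * b = (a * b * a⁻¹ * b⁻¹) * (b * a) := by group
      _ = b * a := by rw [h2, one_mul]
  have h3 : IsZGroup A := ⟨fun p hp P => h p P hp P.isPGroup'⟩
  have h4 : Group.IsNilpotent A := by
    let _ : CommGroup A := { ‹Group A› with mul_comm := hcomm }
    infer_instance
  infer_instance

variable {X : Type*} [Group X] [Finite X] (S : Subgroup X) [hSn : S.Normal]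

/-- the order of a simple nonabelian group: perfect -/
theorem perfect {G : Type*} [Group G] [IsSimpleGroup G] (hna : ¬ IsMulCommutative G) : commutator G = ⊤ := by
  rcases IsSimpleGroup.eq_bot_or_eq_top_of_normal (commutator G) inferInstance with h | h
  · exfalso
    apply hna
    refine ⟨⟨fun a b => ?_⟩⟩
    have h2 : a * b * a⁻¹ * b⁻¹ ∈ commutator G := by
      rw [_root_.commutator_def]
      exact Subgroup.commutator_mem_commutator (mem_top a) (mem_top b)
    rw [h, mem_bot] at h2
    calc a * b = (a * b * a⁻¹ * b⁻¹) * (b * a) := by group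
      _ = b * a := by rw [h2, one_mul]
  · exact h

/-- noncyclic `r`-subgroups, `r` a divisor of `|S|` and of `|X ⧸ S|` -/
theorem exists_noncyclic [IsSimpleGroup S] (hna : ¬ IsMulCommutative S) {r : ℕ} (hr : r.Prime)
    (h1 : r ∣ Nat.card S) (h2 : r ∣ Nat.card (X ⧸ S)) : ∃ E : Subgroup X, IsPGroup r E ∧ ¬ IsCyclic E := by
  by_contra hno
  push Not at hno
  have fr : Fact r.Prime := ⟨hr⟩
  obtain ⟨a, ha⟩ := exists_prime_orderOf_dvd_card' r h2
  set Y : Subgroup X := (zpowers a).comap (QuotientGroup.mk' S) with hY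
  have hSY : S ≤ Y := by
    intro x hx
    rw [hY, mem_comap, QuotientGroup.mk'_apply, (QuotientGroup.eq_one_iff x).2 hx]
    exact one_mem _
  obtain ⟨P⟩ : Nonempty (Sylow r Y) := inferInstance
  have hP : IsCyclic P := by
    have h3 : IsPGroup r ((P : Subgroup Y).map Y.subtype) := P.isPGroup'.map _
    have h4 := hno _ h3
    exact ((P : Subgroup Y).equivMapOfInjective Y.subtype Y.subtype_injective).isCyclic.2 h4
  -- the commutator subgroup
  have h5 : S.subgroupOf Y ≤ commutator Y := by
    have h6 : commutator S ≤ (commutator Y).comap (inclusion hSY) := by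
      rw [_root_.commutator_def, Subgroup.commutator_le]
      intro x _ y _
      rw [mem_comap, map_commutatorElement, _root_.commutator_def]
      exact Subgroup.commutator_mem_commutator (mem_top _) (mem_top _)
    rw [perfect hna] at h6
    intro y hy
    have h7 := h6 (mem_top (⟨(y : X), hy⟩ : S))
    exact h7
  have h6 : commutator Y ≤ S.subgroupOf Y := by
    rw [_root_.commutator_def, Subgroup.commutator_le]
    intro x _ y _
    rw [mem_subgroupOf]
    rw [← QuotientGroup.eq_one_iff]
    obtain ⟨i, hi⟩ := mem_zpowers_iff.1 (show (QuotientGroup.mk' S) (x : X) ∈ zpowers a from x.2)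
    obtain ⟨j, hj⟩ := mem_zpowers_iff.1 (show (QuotientGroup.mk' S) (y : X) ∈ zpowers a from y.2)
    have h7 : (QuotientGroup.mk' S) (x : X) * (QuotientGroup.mk' S) (y : X) =
        (QuotientGroup.mk' S) (y : X) * (QuotientGroup.mk' S) (x : X) := by
      rw [← hi, ← hj, ← zpow_add, ← zpow_add, add_comm]
    change (QuotientGroup.mk' S) ((x : X) * y * (x : X)⁻¹ * (y : X)⁻¹) = 1
    rw [map_mul, map_mul, map_mul, map_inv, map_inv, h7]
    group
  have h7 : commutator Y = S.subgroupOf Y := le_antisymm h6 h5
  have hc : Nat.card (S.subgroupOf Y) = Nat.card S := Nat.card_congr (Subgroup.subgroupOfEquivOfLe hSY).toEquiv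
  rcases Sylow.not_dvd_card_commutator_or_not_dvd_index_commutator P with h8 | h8
  · rw [h7, hc] at h8
    exact h8 h1
  · rw [h7] at h8
    apply h8
    change r ∣ S.relIndex Y
    have h9 : Nat.card (Y.map (QuotientGroup.mk' S)) = r := by
      rw [hY, Subgroup.map_comap_eq_self_of_surjective (QuotientGroup.mk'_surjective S), Nat.card_zpowers, ha]
    have h10 := Subgroup.relIndex_ker Y (QuotientGroup.mk' S)
    rw [QuotientGroup.ker_mk', h9] at h10
    rw [h10]

/-- central elements of the outer automorphism group -/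
theorem adj_of_cent (hC : centralizer (S : Set X) = ⊥) (hcent : Cent S) {r s : ℕ} (hr : r.Prime) (hs : s.Prime)
    (hne : r ≠ s) (hrd : r ∣ Nat.card (X ⧸ S)) (hsX : s ∣ Nat.card X) (hsS : ¬ s ∣ Nat.card S) : Adj X r s := by
  have fr : Fact r.Prime := ⟨hr⟩
  have fs : Fact s.Prime := ⟨hs⟩
  have hsd : s ∣ Nat.card (X ⧸ S) := by
    rw [Subgroup.card_eq_card_quotient_mul_card_subgroup S] at hsX
    exact (hs.dvd_mul.1 hsX).resolve_right hsS
  obtain ⟨a, ha⟩ := exists_prime_orderOf_dvd_card' s hsd
  obtain ⟨b, hb⟩ := exists_prime_orderOf_dvd_card' r hrd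
  have h1 : orderOf (emb S hC a) = s := by rw [orderOf_injective _ (emb_injective S hC), ha]
  have h2 : a * b = b * a := by
    apply emb_injective S hC
    rw [map_mul, map_mul]
    exact ((mem_center_iff.1 (hcent s hs hsS _ h1)) _).symm
  have h3 : orderOf (a * b) = s * r := by
    have h4 : Commute a b := h2
    rw [h4.orderOf_mul_eq_mul_orderOf_of_coprime (by rw [ha, hb]; exact (Nat.coprime_primes hs hr).2 hne.symm), ha, hb]
  obtain ⟨g, hg⟩ := QuotientGroup.mk_surjective (a * b)
  refine adj_of_orderOf hr hs hne (g := g) ?_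
  rw [mul_comm, ← h3, ← hg]
  exact orderOf_map_dvd (QuotientGroup.mk' S) g

/-- a noncyclic `r`-subgroup of a quotient comes from one of the group -/
theorem exists_lift_noncyclic {r : ℕ} (hr : r.Prime) (E : Subgroup (X ⧸ S)) (hE : IsPGroup r E)
    (hnc : ¬ IsCyclic E) : ∃ D : Subgroup X, IsPGroup r D ∧ ¬ IsCyclic D := by
  have fr : Fact r.Prime := ⟨hr⟩
  obtain ⟨Q, hQ⟩ := hE.exists_le_sylow
  obtain ⟨P⟩ : Nonempty (Sylow r X) := inferInstance
  refine ⟨P, P.isPGroup', fun hc => hnc ?_⟩
  have h1 : IsCyclic (P.mapSurjective (QuotientGroup.mk'_surjective S)) :=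
    isCyclic_of_surjective ((QuotientGroup.mk' S).subgroupMap (P : Subgroup X))
      ((QuotientGroup.mk' S).subgroupMap_surjective _)
  have h2 : IsCyclic Q := ((P.mapSurjective (QuotientGroup.mk'_surjective S)).equiv Q).isCyclic.1 h1
  exact isCyclic_of_injective (Subgroup.inclusion hQ) (Subgroup.inclusion_injective hQ)

/-- **The main lemma.** -/
theorem main [IsSimpleGroup S] (hna : ¬ IsMulCommutative S) (hC : centralizer (S : Set X) = ⊥) (hinv : CopInv S)
    (hrow : Row S) (hnc : ¬ IsCyclic (X ⧸ S)) :
    ∃ r : ℕ, r.Prime ∧ r ∣ Nat.card (X ⧸ S) ∧ (r = 2 ∨ (r ≠ 2 ∧ ∃ E : Subgroup X, IsPGroup r E ∧ ¬ IsCyclic E)) ∧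
      ∀ s : ℕ, s.Prime → s ∣ Nat.card X → s ≠ r → Adj X r s := by
  have f2 : Fact (Nat.Prime 2) := ⟨Nat.prime_two⟩
  have hcard : Nat.card X = Nat.card (X ⧸ S) * Nat.card S := Subgroup.card_eq_card_quotient_mul_card_subgroup S
  by_cases h2 : ∃ E : Subgroup (X ⧸ S), IsPGroup 2 E ∧ ¬ IsCyclic E
  · obtain ⟨E, hE, hEnc⟩ := h2
    have h4 : 4 ∣ Nat.card (X ⧸ S) := by
      obtain ⟨k, hk⟩ := hE.exists_card_eq
      refine Dvd.dvd.trans ?_ (Subgroup.card_subgroup_dvd_card E)
      rw [hk]
      have hk2 : 2 ≤ k := by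
        by_contra hlt
        apply hEnc
        have : k = 0 ∨ k = 1 := by omega
        rcases this with rfl | rfl
        · rw [pow_zero] at hk
          have := (Nat.card_eq_one_iff_unique.1 hk).1
          exact isCyclic_of_subsingleton
        · rw [pow_one] at hk
          exact isCyclic_of_prime_card hk
      exact pow_dvd_pow 2 hk2
    refine ⟨2, Nat.prime_two, Dvd.dvd.trans (by norm_num) h4, Or.inl rfl, fun s hs hsX hs2 => ?_⟩
    have fs : Fact s.Prime := ⟨hs⟩
    by_cases hsS : s ∣ Nat.card S
    · rcases hrow.two ⟨E.map (emb S hC), hE.map _, fun h1 => hEnc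
        ((E.equivMapOfInjective _ (emb_injective S hC)).isCyclic.2 h1)⟩ s hs hs2 hsS with h | h | ⟨x, y, hx, h⟩
      · exact h.map S.subtype S.subtype_injective
      · obtain ⟨P⟩ : Nonempty (Sylow s S) := inferInstance
        exact adj_of_cyclic S P Nat.prime_two (Ne.symm hs2) hs2 hsS (h P) E hE hEnc
      · exact adj_of_two S hs hs2 x y hx (fun g => h _) h4
    · obtain ⟨x, hx⟩ := exists_prime_orderOf_dvd_card' s hsX
      obtain ⟨g, hg, hxg⟩ := hinv s hs hs2 hsS (MulAut.conjNormal x) (by rw [← map_pow, ← hx, pow_orderOf_eq_one, map_one])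
      have h5 : x * g * x⁻¹ = g := by
        have := congrArg Subtype.val hxg
        rwa [MulAut.conjNormal_apply] at this
      have h6 : Commute (g : X) x := (mul_inv_eq_iff_eq_mul.1 h5).symm
      exact adj_of_dvd Nat.prime_two hs (Ne.symm hs2) h6 (by rw [Subgroup.orderOf_coe, hg]) (by rw [hx])
        (orderOf_pos _).ne' (orderOf_pos _).ne'
  · push Not at h2
    rcases hrow.out with h1 | ⟨hcent, hodd⟩
    · exfalso
      apply hnc
      have h3 : IsCyclic (emb S hC).range := by
        apply h1
        intro C hCr hC2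
        have h4 := h2 (C.comap (emb S hC)) (hC2.comap_of_injective _ (emb_injective S hC))
        have h5 : (C.comap (emb S hC)).map (emb S hC) = C := Subgroup.map_comap_eq_self hCr
        have h6 := ((C.comap (emb S hC)).equivMapOfInjective _ (emb_injective S hC)).isCyclic.1 h4
        rwa [h5] at h6
      exact (MonoidHom.ofInjective (emb_injective S hC)).isCyclic.2 h3
    · by_cases h3 : ∃ (r : ℕ) (E : Subgroup (X ⧸ S)), r.Prime ∧ IsPGroup r E ∧ ¬ IsCyclic E
      · obtain ⟨r, E, hr, hE, hEnc⟩ := h3
        have hr2 : r ≠ 2 := by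
          rintro rfl
          exact hEnc (h2 E hE)
        have hrd : r ∣ Nat.card (X ⧸ S) := by
          obtain ⟨k, hk⟩ := (have : Fact r.Prime := ⟨hr⟩; hE.exists_card_eq)
          refine Dvd.dvd.trans ?_ (Subgroup.card_subgroup_dvd_card E)
          rw [hk]
          refine dvd_pow_self r ?_
          rintro rfl
          apply hEnc
          rw [pow_zero] at hk
          have := (Nat.card_eq_one_iff_unique.1 hk).1
          exact isCyclic_of_subsingleton
        refine ⟨r, hr, hrd, Or.inr ⟨hr2, exists_lift_noncyclic S hr E hE hEnc⟩, fun s hs hsX hsr => ?_⟩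
        by_cases hsS : s ∣ Nat.card S
        · exact adj_of_noncyclic S hr hs (Ne.symm hsr) hr2 hsS E hE hEnc
        · exact adj_of_cent S hC hcent hr hs (Ne.symm hsr) hrd hsX hsS
      · push Not at h3
        have h4 := commutator_ne_bot hnc (fun p C hp hCp => h3 p C hp hCp)
        have h5 : Nat.card (commutator (X ⧸ S)) ≠ 1 := fun h => h4 (Subgroup.card_eq_one.1 h)
        obtain ⟨r, hr, hrd⟩ := Nat.exists_prime_and_dvd h5
        have hr2 : r ≠ 2 := by
          rintro rfl
          exact odd_commutator h2 hrd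
        have h6 : r ∣ Nat.card (commutator (Out S)) := by
          have h7 : (commutator (X ⧸ S)).map (emb S hC) ≤ commutator (Out S) := by
            rw [_root_.commutator_def, _root_.commutator_def, Subgroup.map_commutator]
            exact Subgroup.commutator_mono le_top le_top
          refine hrd.trans ?_
          rw [← Subgroup.card_map_of_injective (emb_injective S hC)]
          exact Subgroup.card_dvd_of_le h7
        obtain ⟨hrS, hok⟩ := hodd r hr hr2 h6
        have hrd' : r ∣ Nat.card (X ⧸ S) := hrd.trans (Subgroup.card_subgroup_dvd_card _)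
        refine ⟨r, hr, hrd', Or.inr ⟨hr2, exists_noncyclic S hna hr hrS hrd'⟩, fun s hs hsX hsr => ?_⟩
        have fs : Fact s.Prime := ⟨hs⟩
        by_cases hsS : s ∣ Nat.card S
        · obtain ⟨P⟩ : Nonempty (Sylow s S) := inferInstance
          rcases hok s hs hsr hsS with h | h | ⟨x, hx, h⟩ | h
          · exact h.map S.subtype S.subtype_injective
          · exact adj_of_commutator S P hr (Ne.symm hsr) hsS (h P) hrd
          · exact adj_of_one S hr hs (Ne.symm hsr) x hx (fun g => h _) hrd'
          · exact adj_of_count S P hr (Ne.symm hsr) hrd' (h P)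
        · exact adj_of_cent S hC hcent hr hs (Ne.symm hsr) hrd' hsX hsS

end Cfsg.Agent.H160.NC
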