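import Cfsg.Agent.H160.NC.Asm

/-!
# Criteria for the outer automorphism group (helper160, for S4185)
-/

set_option autoImplicit false
set_option linter.unusedSectionVars false

namespace Cfsg.Agent.H160.NC

open Subgroup
open Cfsg (Out Inn)

/-- cyclic quotient by a normal 2-subgroup -/
theorem cyclic_of_twoCyc {Q C : Type*} [Group Q] [Finite Q] [Group C] [IsCyclic C] (φ : Q →* C)
    (hk : ∀ a, φ a = 1 → ∃ k, a ^ 2 ^ k = 1) (A : Subgroup Q) (hA : TwoCyc A) : IsCyclic A := by
  by_contra hnc
  have h1 : ∀ (p : ℕ) (E : Subgroup A), p.Prime → IsPGroup p E → IsCyclic E := by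
    intro p E hp hE
    by_cases hp2 : p = 2
    · subst hp2
      have h2 := hA (E.map A.subtype) (Subgroup.map_subtype_le E) (hE.map _)
      exact (E.equivMapOfInjective A.subtype A.subtype_injective).isCyclic.2 h2
    · let f : E →* C := (φ.comp A.subtype).comp E.subtype
      refine isCyclic_of_injective f ?_
      rw [injective_iff_map_eq_one]
      intro a ha
      obtain ⟨k, hk'⟩ := hE a
      obtain ⟨l, hl⟩ := hk ((a : A) : Q) ha
      have h2 : a ^ 2 ^ l = 1 := by
        apply Subtype.ext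
        apply Subtype.ext
        rw [SubmonoidClass.coe_pow, SubmonoidClass.coe_pow, hl]
        rfl
      have h3 : orderOf a ∣ Nat.gcd (p ^ k) (2 ^ l) :=
        Nat.dvd_gcd (orderOf_dvd_of_pow_eq_one hk') (orderOf_dvd_of_pow_eq_one h2)
      have h4 : Nat.Coprime (p ^ k) (2 ^ l) := Nat.Coprime.pow _ _ ((Nat.coprime_primes hp Nat.prime_two).2 hp2)
      rw [h4] at h3
      exact orderOf_eq_one_iff.1 (Nat.dvd_one.1 h3)
  have h2 := commutator_ne_bot hnc h1
  have h3 := odd_commutator (A := A) (fun E hE => h1 2 E Nat.prime_two hE)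
  apply h2
  rw [eq_bot_iff]
  intro a ha
  have h4 : φ a = 1 := by
    have h5 : commutator A ≤ (φ.comp A.subtype).ker := by
      rw [_root_.commutator_def, Subgroup.commutator_le]
      intro x _ y _
      rw [MonoidHom.mem_ker]
      change φ (A.subtype (x * y * x⁻¹ * y⁻¹)) = 1
      rw [map_mul, map_mul, map_mul, map_mul, map_mul, map_mul, map_inv, map_inv, map_inv, map_inv]
      obtain ⟨g, hg⟩ := IsCyclic.exists_generator (α := C)
      obtain ⟨i, hi⟩ := mem_zpowers_iff.1 (hg (φ (A.subtype x)))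
      obtain ⟨j, hj⟩ := mem_zpowers_iff.1 (hg (φ (A.subtype y)))
      rw [← hi, ← hj, ← zpow_add, ← zpow_neg, ← zpow_add, ← zpow_neg, ← zpow_add]
      have : i + j + -i + -j = 0 := by ring
      rw [this, zpow_zero]
    exact h5 ha
  obtain ⟨l, hl⟩ := hk _ h4
  have h5 : orderOf a ∣ 2 ^ l := by
    apply orderOf_dvd_of_pow_eq_one
    apply Subtype.ext
    rw [SubmonoidClass.coe_pow, hl]
    rfl
  have h6 : orderOf a ∣ Nat.card (commutator A) := by
    rw [← Subgroup.orderOf_mk a ha]
    exact orderOf_dvd_natCard _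
  obtain ⟨m, hm, hm2⟩ := (Nat.dvd_prime_pow Nat.prime_two).1 h5
  rw [mem_bot, ← orderOf_eq_one_iff, hm2]
  rcases Nat.eq_zero_or_pos m with rfl | hpos
  · rw [pow_zero]
  · exfalso
    rw [hm2] at h6
    exact h3 ((dvd_pow_self 2 hpos.ne').trans h6)

/-- a product of a 2-group and a cyclic group -/
theorem cyclic_of_equiv {Q P C : Type*} [Group Q] [Finite Q] [Group P] [Group C] [IsCyclic C] (e : Q ≃* P × C)
    (hP : IsPGroup 2 P) (A : Subgroup Q) (hA : TwoCyc A) : IsCyclic A := by
  refine cyclic_of_twoCyc ((MonoidHom.snd P C).comp e.toMonoidHom) (fun a ha => ?_) A hA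
  obtain ⟨k, hk⟩ := hP (e a).1
  refine ⟨k, ?_⟩
  apply e.injective
  rw [map_pow, map_one]
  have h1 : (e a).2 = 1 := ha
  ext
  · rw [Prod.pow_fst, hk]; rfl
  · rw [Prod.pow_snd, h1, one_pow]; rfl

/-- the quotient of a group with a homomorphism to a cyclic group -/
theorem cyclic_of_surjective {M Q C : Type*} [Group M] [Group Q] [Finite Q] [Group C] [IsCyclic C] (π : M →* Q)
    (hπ : Function.Surjective π) (σ : M →* C) (hk : ∀ m, σ m = 1 → ∃ k, π m ^ 2 ^ k = 1)
    (A : Subgroup Q) (hA : TwoCyc A) : IsCyclic A := by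
  have hN : (σ.ker.map π).Normal := Subgroup.Normal.map inferInstance π hπ
  have hcyc : IsCyclic (Q ⧸ σ.ker.map π) := by
    let f : M ⧸ σ.ker →* Q ⧸ σ.ker.map π :=
      QuotientGroup.map σ.ker (σ.ker.map π) π (Subgroup.le_comap_map π σ.ker)
    have h1 : IsCyclic (M ⧸ σ.ker) := isCyclic_of_injective (QuotientGroup.kerLift σ) (QuotientGroup.kerLift_injective σ)
    refine isCyclic_of_surjective f ?_
    intro q
    obtain ⟨q, rfl⟩ := QuotientGroup.mk_surjective q
    obtain ⟨m, rfl⟩ := hπ q
    exact ⟨(m : M ⧸ σ.ker), rfl⟩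
  refine cyclic_of_twoCyc (QuotientGroup.mk' (σ.ker.map π)) (fun a ha => ?_) A hA
  rw [QuotientGroup.mk'_apply, QuotientGroup.eq_one_iff] at ha
  obtain ⟨m, hm, rfl⟩ := ha
  exact hk m hm

/-- elements of a prime order larger than the order of a normal subgroup with abelian quotient are central -/
theorem mem_center_of_card_lt {Q : Type*} [Group Q] [Finite Q] (D : Subgroup Q) [hD : D.Normal]
    (hab : commutator Q ≤ D) {s : ℕ} (hs : s.Prime) (hsd : Nat.card D < s) (a : Q) (ha : orderOf a = s) :
    a ∈ center Q := by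
  classical
  have has : a ^ s = 1 := by rw [← ha, pow_orderOf_eq_one]
  have h1 : ∀ d ∈ D, a * d * a⁻¹ = d := by
    let f : Equiv.Perm D := (MulAut.conjNormal (H := D) a).toEquiv
    let g : Q →* Equiv.Perm D := (MulAut.toPerm D).comp (MulAut.conjNormal (H := D))
    have h2 : g a ^ s = 1 := by rw [← map_pow, has, map_one]
    have h3 : orderOf (g a) ∣ (Nat.card D).factorial := by
      have : Fintype D := Fintype.ofFinite D
      have h4 : orderOf (g a) ∣ Fintype.card (Equiv.Perm D) := orderOf_dvd_card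
      rwa [Fintype.card_perm, ← Nat.card_eq_fintype_card] at h4
    have h4 : orderOf (g a) = 1 := by
      rcases (Nat.dvd_prime hs).1 (orderOf_dvd_of_pow_eq_one h2) with h5 | h5
      · exact h5
      · exfalso
        rw [h5] at h3
        have := (hs.dvd_factorial).1 h3
        omega
    intro d hd
    have h5 := orderOf_eq_one_iff.1 h4
    have h6 := congrArg Subtype.val (Equiv.congr_fun h5 ⟨d, hd⟩)
    exact h6
  have hsD : ¬ s ∣ Nat.card D := fun h => by
    have := Nat.le_of_dvd Nat.card_pos h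
    omega
  rw [mem_center_iff]
  intro g
  have h2 : a * g * a⁻¹ * g⁻¹ ∈ D := hab (by
    rw [_root_.commutator_def]
    exact Subgroup.commutator_mem_commutator (mem_top a) (mem_top g))
  set d := a * g * a⁻¹ * g⁻¹ with hd
  have h3 : d⁻¹ * a = g * a * g⁻¹ := by rw [hd]; group
  have h4 : Commute a d := mul_inv_eq_iff_eq_mul.1 (h1 d h2)
  have h5 : d ^ s = 1 := by
    have h6 : (d⁻¹ * a) ^ s = 1 := by rw [h3, conj_pow, has, mul_one, mul_inv_cancel]
    rw [(h4.symm.inv_left).mul_pow, has, mul_one, inv_pow, inv_eq_one] at h6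
    exact h6
  have h6 : d = 1 := by
    have h7 : orderOf d ∣ Nat.card D := by
      rw [← Subgroup.orderOf_mk d h2]
      exact orderOf_dvd_natCard _
    rcases (Nat.dvd_prime hs).1 (orderOf_dvd_of_pow_eq_one h5) with h8 | h8
    · exact orderOf_eq_one_iff.1 h8
    · exact absurd (h8 ▸ h7) hsD
  rw [h6, inv_one, one_mul] at h3
  calc g * a = (g * a * g⁻¹) * g := by group
    _ = a * g := by rw [← h3]

/-- the commutator subgroup is contained in the kernel of a homomorphism to a commutative group -/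
theorem commutator_le_ker {Q C : Type*} [Group Q] [CommGroup C] (φ : Q →* C) : commutator Q ≤ φ.ker :=
  Abelianization.commutator_subset_ker φ

end Cfsg.Agent.H160.NC
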