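import Cfsg.Agent.H425.KStep
import Cfsg.Agent.H94.PrimeGraph
import Cfsg.Prelude.Def_KGroupFacts

/-!
# Noncyclic outer part: general lemmas (helper160, for S4185)

`S` a normal subgroup of the finite group `X`, `Adj` the adjacency of the prime graph.

* `adj_of_noncyclic` : `X ⧸ S` has a noncyclic `r`-subgroup, `r ≠ 2`, `s ∣ |S|`: `Adj X r s`;
* `adj_of_cyclic` : `X ⧸ S` has a noncyclic `r`-subgroup, Sylow `s`-subgroups of `S` cyclic, `s ≠ 2`: `Adj X r s`;
* `adj_of_commutator` : `r ∣ |(X ⧸ S)'|`, Sylow `s`-subgroups of `S` cyclic: `Adj X r s`;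
* `adj_of_one`, `adj_of_two` : an element `x ∈ S` of order `s` whose `X`-class is one or at most two classes of `S`;
* `adj_of_count` : `r ∣ |X ⧸ S|`, `|P| % r ≠ 1` for Sylow `s`-subgroups of `S`.
-/

set_option autoImplicit false
set_option linter.unusedSectionVars false

namespace Cfsg.Agent.H160.NC

open Subgroup
open Cfsg.Agent.H94.PG (Adj adj_of_dvd)
open Cfsg.Agent.H425.KStep (surj)

variable {X : Type*} [Group X] [Finite X]

theorem adj_of_orderOf {r s : ℕ} (hr : r.Prime) (hs : s.Prime) (hne : r ≠ s) {g : X} (h : r * s ∣ orderOf g) :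
    Adj X r s :=
  adj_of_dvd hr hs hne (Commute.refl g) ((dvd_mul_right r s).trans h) ((dvd_mul_left s r).trans h)
    (orderOf_pos g).ne' (orderOf_pos g).ne'

theorem exists_of_adj {r s : ℕ} (h : Adj X r s) : ∃ g : X, orderOf g = r * s := by
  obtain ⟨hr, hs, hne, x, y, hx, hy, hc⟩ := h
  refine ⟨x * y, ?_⟩
  rw [hc.orderOf_mul_eq_mul_orderOf_of_coprime (by rw [hx, hy]; exact (Nat.coprime_primes hr hs).2 hne), hx, hy]

/-- commuting nontrivial elements of an `r`-group and an `s`-group -/
theorem adj_of_groups {r s : ℕ} (hr : r.Prime) (hs : s.Prime) (hne : r ≠ s) {R P : Subgroup X} (hR : IsPGroup r R)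
    (hP : IsPGroup s P) {x y : X} (hx : x ∈ R) (hy : y ∈ P) (hx1 : x ≠ 1) (hy1 : y ≠ 1) (hc : Commute x y) :
    Adj X r s := by
  obtain ⟨g, hg⟩ := H425.KStep.adj_of_commute hr hs hne hR hP hx hy hx1 hy1 hc
  exact adj_of_orderOf hr hs hne (by rw [hg])

variable (S : Subgroup X) [hSn : S.Normal]

/-- the odd noncyclic case -/
theorem adj_of_noncyclic {r s : ℕ} (hr : r.Prime) (hs : s.Prime) (hne : r ≠ s) (hr2 : r ≠ 2) (hsS : s ∣ Nat.card S)
    (E : Subgroup (X ⧸ S)) (hE : IsPGroup r E) (hnc : ¬ IsCyclic E) : Adj X r s := by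
  obtain ⟨g, hg⟩ := H425.KStep.exists_adj S hr hs hne hr2 hsS E hE hnc
  exact adj_of_orderOf hr hs hne (by rw [hg])

section Sylow

variable {s : ℕ} [hs : Fact s.Prime] (P : Sylow s S)

/-- the Sylow subgroup of `S` in `X` -/
abbrev T : Subgroup X := (P : Subgroup S).map S.subtype

/-- its normalizer -/
abbrev N : Subgroup X := normalizer ((T S P : Subgroup X) : Set X)

/-- the map of the normalizer onto the quotient -/
noncomputable abbrev toQuo : N S P →* X ⧸ S := (QuotientGroup.mk' S).comp (N S P).subtype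

theorem toQuo_surj : Function.Surjective (toQuo S P) := surj S P

theorem isPGroup_T : IsPGroup s (T S P) := P.isPGroup'.map _

theorem T_ne_bot (h : s ∣ Nat.card S) : T S P ≠ ⊥ := by
  intro h1
  rw [Subgroup.map_eq_bot_iff_of_injective _ S.subtype_injective] at h1
  exact P.ne_bot_of_dvd_card h h1

/-- the action of the normalizer on the Sylow subgroup -/
def act : N S P →* MulAut (T S P) where
  toFun n :=
    { toFun := fun x => ⟨(n : X) * x * (n : X)⁻¹, (mem_normalizer_iff.1 n.2 x).1 x.2⟩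
      invFun := fun x => ⟨(n : X)⁻¹ * x * (n : X), by
        have := (mem_normalizer_iff.1 (inv_mem n.2) (x : X)).1 x.2
        rwa [inv_inv] at this⟩
      left_inv := fun x => Subtype.ext (by simp [mul_assoc])
      right_inv := fun x => Subtype.ext (by simp [mul_assoc])
      map_mul' := fun x y => Subtype.ext (by simp [mul_assoc]) }
  map_one' := by ext x; simp
  map_mul' a b := by ext x; simp [mul_assoc]

theorem commute_of_act {n : N S P} (h : act S P n = 1) {x : X} (hx : x ∈ T S P) : Commute (n : X) x := by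
  have h1 := congrArg Subtype.val (DFunLike.congr_fun h (⟨x, hx⟩ : T S P))
  change (n : X) * x * (n : X)⁻¹ = x at h1
  exact mul_inv_eq_iff_eq_mul.1 h1

/-- an `r`-element acting trivially -/
theorem adj_of_act {r : ℕ} (hr : r.Prime) (hne : r ≠ s) (hsS : s ∣ Nat.card S) {n : N S P} (h : act S P n = 1)
    (hn : r ∣ orderOf n) : Adj X r s := by
  obtain ⟨x, hx⟩ := (Subgroup.ne_bot_iff_exists_ne_one).1 (T_ne_bot S P hsS)
  have hx1 : (x : X) ≠ 1 := fun h => hx (Subtype.ext h)
  have hd : s ∣ orderOf (x : X) := by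
    obtain ⟨k, hk⟩ := (IsPGroup.iff_orderOf.1 (isPGroup_T S P)) x
    rw [Subgroup.orderOf_coe, hk]
    refine dvd_pow_self s ?_
    rintro rfl
    rw [pow_zero, orderOf_eq_one_iff] at hk
    exact hx hk
  exact adj_of_dvd hr hs.out hne (commute_of_act S P h x.2) (by rwa [Subgroup.orderOf_coe]) hd
    (orderOf_pos _).ne' (orderOf_pos _).ne'

/-- **The commutator case.** -/
theorem adj_of_commutator {r : ℕ} (hr : r.Prime) (hne : r ≠ s) (hsS : s ∣ Nat.card S) (hP : IsCyclic P)
    (hd : r ∣ Nat.card (commutator (X ⧸ S))) : Adj X r s := by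
  have : Fact r.Prime := ⟨hr⟩
  have hT : IsCyclic (T S P) := isCyclic_of_surjective ((S.subtype).subgroupMap (P : Subgroup S))
    (S.subtype.subgroupMap_surjective _)
  have hcomm : ∀ a b : MulAut (T S P), a * b = b * a := by
    intro a b
    apply (IsCyclic.mulAutMulEquiv (T S P)).injective
    rw [map_mul, map_mul, mul_comm]
  have h1 : commutator (N S P) ≤ (act S P).ker := by
    rw [commutator_def, Subgroup.commutator_le]
    intro a _ b _
    rw [MonoidHom.mem_ker, map_commutatorElement, commutatorElement_eq_one_iff_mul_comm]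
    exact hcomm _ _
  have h2 : (commutator (N S P)).map (toQuo S P) = commutator (X ⧸ S) := by
    rw [commutator_def, commutator_def, Subgroup.map_commutator, ← MonoidHom.range_eq_map,
      MonoidHom.range_eq_top.2 (toQuo_surj S P)]
  have h3 : r ∣ Nat.card (commutator (N S P)) := by
    rw [← h2] at hd
    exact hd.trans (Subgroup.card_map_dvd _ _)
  obtain ⟨c, hc⟩ := exists_prime_orderOf_dvd_card' r h3
  refine adj_of_act S P hr hne hsS (n := c) (h1 c.2) ?_
  rw [Subgroup.orderOf_coe, hc]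

/-- **The cyclic case.** -/
theorem adj_of_cyclic {r : ℕ} (hr : r.Prime) (hne : r ≠ s) (hs2 : s ≠ 2) (hsS : s ∣ Nat.card S) (hP : IsCyclic P)
    (E : Subgroup (X ⧸ S)) (hE : IsPGroup r E) (hnc : ¬ IsCyclic E) : Adj X r s := by
  have : Fact r.Prime := ⟨hr⟩
  have hT : IsCyclic (T S P) := isCyclic_of_surjective ((S.subtype).subgroupMap (P : Subgroup S))
    (S.subtype.subgroupMap_surjective _)
  have hA : IsCyclic (MulAut (T S P)) := by
    obtain ⟨k, hk⟩ := (isPGroup_T S P).exists_card_eq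
    have h1 : IsCyclic (ZMod (Nat.card (T S P)))ˣ := by
      rw [hk]
      exact ZMod.isCyclic_units_of_prime_pow s hs.out hs2 k
    exact (IsCyclic.mulAutMulEquiv (T S P)).isCyclic.2 h1
  have hfs := toQuo_surj S P
  set Y : Subgroup (N S P) := E.comap (toQuo S P) with hY
  let f' : Y →* E := (toQuo S P).subgroupComap E
  have hf's : Function.Surjective f' := by
    rintro ⟨e, he⟩
    obtain ⟨n, rfl⟩ := hfs e
    exact ⟨⟨n, he⟩, rfl⟩
  obtain ⟨Q⟩ : Nonempty (Sylow r Y) := inferInstance
  have hQnc : ¬ IsCyclic Q := by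
    intro hc
    have h1 : IsCyclic (Q.mapSurjective hf's) :=
      isCyclic_of_surjective (f'.subgroupMap (Q : Subgroup Y)) (f'.subgroupMap_surjective _)
    have h2 : ((Q.mapSurjective hf's : Sylow r E) : Subgroup E) = ⊤ :=
      ((Q.mapSurjective hf's).is_maximal' (hE.to_subgroup ⊤) le_top).symm
    apply hnc
    have h3 : IsCyclic ((Q.mapSurjective hf's : Sylow r E) : Subgroup E) := h1
    rw [h2] at h3
    exact (Subgroup.topEquiv (G := E)).isCyclic.1 h3
  let g : Q →* MulAut (T S P) := (act S P).comp (Y.subtype.comp (Q : Subgroup Y).subtype)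
  have hg : ¬ Function.Injective g := fun h => hQnc (isCyclic_of_injective g h)
  rw [injective_iff_map_eq_one] at hg
  push Not at hg
  obtain ⟨q, hq, hq1⟩ := hg
  refine adj_of_act S P hr hne hsS (n := ((q : Y) : N S P)) hq ?_
  obtain ⟨k, hk⟩ := (IsPGroup.iff_orderOf.1 Q.isPGroup') q
  rw [Subgroup.orderOf_coe, Subgroup.orderOf_coe, hk]
  refine dvd_pow_self r ?_
  rintro rfl
  rw [pow_zero, orderOf_eq_one_iff] at hk
  exact hq1 hk

/-- **The counting case.** -/
theorem adj_of_count {r : ℕ} (hr : r.Prime) (hne : r ≠ s) (hd : r ∣ Nat.card (X ⧸ S))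
    (hc : Nat.card P % r ≠ 1) : Adj X r s := by
  have : Fact r.Prime := ⟨hr⟩
  have hfs := toQuo_surj S P
  have hNd : r ∣ Nat.card (N S P) := hd.trans (Subgroup.card_dvd_of_surjective _ hfs)
  obtain ⟨n, hn⟩ := exists_prime_orderOf_dvd_card' r hNd
  let R : Subgroup (N S P) := zpowers n
  have hR : IsPGroup r R := IsPGroup.of_card (n := 1) (by rw [Nat.card_zpowers, hn, pow_one])
  let _ : MulAction R (T S P) := MulAction.compHom (T S P) ((act S P).comp R.subtype)
  have h1 := hR.card_modEq_card_fixedPoints (T S P)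
  have hcT : Nat.card (T S P) = Nat.card P := Subgroup.card_map_of_injective S.subtype_injective
  have h2 : ∃ x : T S P, x ∈ MulAction.fixedPoints R (T S P) ∧ x ≠ 1 := by
    by_contra hno
    push Not at hno
    have h3 : MulAction.fixedPoints R (T S P) = {1} := by
      apply Set.eq_singleton_iff_unique_mem.2
      refine ⟨fun a => ?_, hno⟩
      exact map_one (act S P (a : N S P))
    rw [h3] at h1
    have h4 : Nat.card ({1} : Set (T S P)) = 1 := by simp
    rw [h4, hcT] at h1
    apply hc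
    rw [h1]
    exact Nat.mod_eq_of_lt hr.one_lt
  obtain ⟨x, hx, hx1⟩ := h2
  have h5 : act S P n x = x := hx ⟨n, mem_zpowers n⟩
  have hc2 : Commute (n : X) (x : X) := by
    have h6 := congrArg Subtype.val h5
    change (n : X) * x * (n : X)⁻¹ = x at h6
    exact mul_inv_eq_iff_eq_mul.1 h6
  have hd2 : s ∣ orderOf (x : X) := by
    obtain ⟨k, hk⟩ := (IsPGroup.iff_orderOf.1 (isPGroup_T S P)) x
    rw [Subgroup.orderOf_coe, hk]
    refine dvd_pow_self s ?_
    rintro rfl
    rw [pow_zero, orderOf_eq_one_iff] at hk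
    exact hx1 hk
  exact adj_of_dvd hr hs.out hne hc2 (by rw [Subgroup.orderOf_coe, hn]) hd2 (orderOf_pos _).ne' (orderOf_pos _).ne'

end Sylow

/-! ### classes -/

theorem conjNormal_coe (g : X) (x : S) : ((MulAut.conjNormal g x : S) : X) = g * x * g⁻¹ := MulAut.conjNormal_apply g x

/-- one class -/
theorem adj_of_one {r s : ℕ} (hr : r.Prime) (hs : s.Prime) (hne : r ≠ s) (x : S) (hx : orderOf x = s)
    (h : ∀ g : X, IsConj x (MulAut.conjNormal g x)) (hd : r ∣ Nat.card (X ⧸ S)) : Adj X r s := by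
  have : Fact r.Prime := ⟨hr⟩
  set C : Subgroup X := centralizer {(x : X)} with hC
  have h1 : C ⊔ S = ⊤ := by
    rw [eq_top_iff]
    intro g _
    obtain ⟨t, ht⟩ := isConj_iff.1 (h g)
    have h2 : (t : X) * x * (t : X)⁻¹ = g * x * g⁻¹ := by
      rw [← conjNormal_coe S g x, ← ht]
      simp
    have h3 : g⁻¹ * t ∈ C := by
      rw [hC, mem_centralizer_singleton_iff]
      calc g⁻¹ * t * x = g⁻¹ * (t * x * (t : X)⁻¹) * t := by group
        _ = g⁻¹ * (g * x * g⁻¹) * t := by rw [h2]
        _ = x * (g⁻¹ * t) := by group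
    have h4 : g = (t : X) * (g⁻¹ * t)⁻¹ := by group
    rw [h4]
    exact mul_mem (mem_sup_right t.2) (mem_sup_left (inv_mem h3))
  have h2 : S.index ∣ Nat.card C := by
    have h3 : S.relIndex (C ⊔ S) = S.relIndex C := Subgroup.relIndex_sup_right _ _
    rw [h1, relIndex_top_right] at h3
    rw [h3]
    exact Subgroup.relIndex_dvd_card _ _
  obtain ⟨c, hc⟩ := exists_prime_orderOf_dvd_card' r ((Subgroup.index_eq_card S ▸ hd).trans h2)
  refine adj_of_dvd hr hs hne (x := (c : X)) (y := (x : X)) (mem_centralizer_singleton_iff.1 c.2) ?_ ?_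
    (orderOf_pos _).ne' (orderOf_pos _).ne'
  · rw [Subgroup.orderOf_coe, hc]
  · rw [Subgroup.orderOf_coe, hx]

/-- at most two classes -/
theorem adj_of_two {s : ℕ} (hs : s.Prime) (hs2 : s ≠ 2) (x y : S) (hx : orderOf x = s)
    (h : ∀ g : X, IsConj x (MulAut.conjNormal g x) ∨ IsConj y (MulAut.conjNormal g x))
    (hd : 4 ∣ Nat.card (X ⧸ S)) : Adj X 2 s := by
  have : Fact (Nat.Prime 2) := ⟨Nat.prime_two⟩
  set C : Subgroup X := centralizer {(x : X)} with hC
  have key : ∀ g g' : X, IsConj (MulAut.conjNormal g x : S) (MulAut.conjNormal g' x) → g⁻¹ * g' ∈ C ⊔ S := by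
    intro g g' hgg
    obtain ⟨t, ht⟩ := isConj_iff.1 hgg
    have h2 : (t : X) * (g * x * g⁻¹) * (t : X)⁻¹ = g' * x * g'⁻¹ := by
      rw [← conjNormal_coe S g x, ← conjNormal_coe S g' x, ← ht]
      simp
    have h3 : g'⁻¹ * t * g ∈ C := by
      rw [hC, mem_centralizer_singleton_iff]
      calc g'⁻¹ * t * g * x = g'⁻¹ * (t * (g * x * g⁻¹) * (t : X)⁻¹) * t * g := by group
        _ = g'⁻¹ * (g' * x * g'⁻¹) * t * g := by rw [h2]
        _ = x * (g'⁻¹ * t * g) := by group
    have h4 : g⁻¹ * g' = (g⁻¹ * t * g) * (g'⁻¹ * t * g)⁻¹ := by group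
    rw [h4]
    refine mul_mem (mem_sup_right ?_) (mem_sup_left (inv_mem h3))
    have := hSn.conj_mem t t.2 g⁻¹
    rwa [inv_inv] at this
  have h1 : (C ⊔ S).index ≤ 2 := by
    classical
    let f : X ⧸ (C ⊔ S) → Prop := fun c => IsConj x (MulAut.conjNormal (Quotient.out c) x : S)
    have hf : Function.Injective f := by
      intro a b hab
      have h2 : IsConj (MulAut.conjNormal (Quotient.out a) x : S) (MulAut.conjNormal (Quotient.out b) x) := by
        have hab' : IsConj x (MulAut.conjNormal (Quotient.out a) x : S) ↔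
            IsConj x (MulAut.conjNormal (Quotient.out b) x : S) := iff_of_eq hab
        by_cases hA : IsConj x (MulAut.conjNormal (Quotient.out a) x : S)
        · exact hA.symm.trans (hab'.1 hA)
        · have hB : ¬ IsConj x (MulAut.conjNormal (Quotient.out b) x : S) := fun hB => hA (hab'.2 hB)
          exact ((h _).resolve_left hA).symm.trans ((h _).resolve_left hB)
      have h3 := key _ _ h2
      rw [← QuotientGroup.out_eq' a, ← QuotientGroup.out_eq' b]
      exact QuotientGroup.eq.2 h3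
    rw [Subgroup.index_eq_card]
    refine (Nat.card_le_card_of_injective f hf).trans ?_
    rw [Nat.card_eq_fintype_card]
    simp
  have h2 : 2 ∣ Nat.card C := by
    have h3 : S.relIndex (C ⊔ S) = S.relIndex C := Subgroup.relIndex_sup_right _ _
    have h4 : S.relIndex (C ⊔ S) * (C ⊔ S).index = S.index := Subgroup.relIndex_mul_index le_sup_right
    rw [h3] at h4
    refine Dvd.dvd.trans ?_ (Subgroup.relIndex_dvd_card S C)
    rw [← Subgroup.index_eq_card, ← h4] at hd
    have h5 : (C ⊔ S).index ≠ 0 := Subgroup.index_ne_zero_of_finite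
    have h6 : (C ⊔ S).index = 1 ∨ (C ⊔ S).index = 2 := by omega
    rcases h6 with h6 | h6 <;> rw [h6] at hd <;> omega
  obtain ⟨c, hc⟩ := exists_prime_orderOf_dvd_card' 2 h2
  refine adj_of_dvd Nat.prime_two hs (Ne.symm hs2) (x := (c : X)) (y := (x : X)) (mem_centralizer_singleton_iff.1 c.2)
    ?_ ?_ (orderOf_pos _).ne' (orderOf_pos _).ne'
  · rw [Subgroup.orderOf_coe, hc]
  · rw [Subgroup.orderOf_coe, hx]

end Cfsg.Agent.H160.NC
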